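import Cfsg.Agent.H97.SchurCert

/-!
Certificates bounding a cyclic `p`-part of the multiplier: all central factors of the rules are
expressed through one of them, and a multiple of that one vanishes.
-/

set_option autoImplicit false

namespace H39.M22

open H97.SchurCert
open scoped commutatorElement

variable {G Γ : Type*} [Group G] [Group Γ] {op : ℕ → ℕ → ℕ} {one : ℕ}

/-- The central factor of a rule for given lifts. -/
def fac (D : Data) (L : ℕ → Γ) (r : ℕ) : Γ :=
  (evG L (ruleAt D r).2)⁻¹ * evG L (ruleAt D r).1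

theorem map_fac {Δ : Type*} [Group Δ] (f : Γ →* Δ) (D : Data) (L : ℕ → Γ) (r : ℕ) :
    f (fac D L r) = fac D (fun i => f (L i)) r := by
  simp only [fac, map_mul, map_inv, map_evG]

/-- Lifts of the symbols in which the defining rules hold exactly. -/
theorem exists_lifts [Finite Γ] (C : Coding G op one) (D : Data)
    (hmem : ∀ v ∈ D.syms, ∃ g : G, C.code g = v) (hrules : rulesOK op one D = true)
    (hdefs : defsOK D = true) (σ : Γ →* G) (hs : Function.Surjective σ) :
    ∃ (val : ℕ → G) (L : ℕ → Γ), (∀ i, C.code (val i) = D.syms.getD i one) ∧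
      (∀ i, σ (L i) = val i) ∧ (∀ r, fac D L r ∈ σ.ker) ∧ ∀ d ∈ D.defs, fac D L d.1 = 1 := by
  classical
  -- the values downstairs and their lifts
  have hval : ∀ i, ∃ g : G, C.code g = D.syms.getD i one := fun i => by
    by_cases hi : i < D.syms.length
    · rw [List.getD_eq_getElem _ _ hi]; exact hmem _ (List.getElem_mem hi)
    · rw [List.getD_eq_default _ _ (Nat.le_of_not_lt hi)]; exact ⟨1, C.map_one⟩
  choose val hval using hval
  choose L0 hL0 using fun i => hs (val i)
  have hrule : ∀ r, evG val (ruleAt D r).1 = evG val (ruleAt D r).2 := fun r => by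
    apply C.inj
    rw [evG_code C val D.syms _ hval, evG_code C val D.syms _ hval]
    unfold ruleAt
    by_cases hi : r < D.rules.length
    · rw [List.getD_eq_getElem _ _ hi]
      exact beq_iff_eq.1 (List.all_eq_true.1 hrules _ (List.getElem_mem hi))
    · rw [List.getD_eq_default _ _ (Nat.le_of_not_lt hi)]
  simp only [defsOK, Bool.and_eq_true, decide_eq_true_eq, List.all_eq_true, beq_iff_eq] at hdefs
  obtain ⟨hpw, hdok⟩ := hdefs
  have hdok' : ∀ d ∈ D.defs, (∀ s ∈ (ruleAt D d.1).1, s < d.2) ∧
      (ruleAt D d.1).2.getLast? = some d.2 ∧ ∀ s ∈ (ruleAt D d.1).2.dropLast, s < d.2 :=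
    fun d hd => ⟨(hdok d hd).1.1.2, (hdok d hd).1.2, (hdok d hd).2⟩
  set L := D.defs.foldl (liftStep D) L0 with hLdef
  have hL : ∀ i, σ (L i) = val i := by
    have key : ∀ (ds : List (ℕ × ℕ)) (F : ℕ → Γ),
        (∀ d ∈ ds, (ruleAt D d.1).2.getLast? = some d.2) → (∀ i, σ (F i) = val i) →
        ∀ i, σ (ds.foldl (liftStep D) F i) = val i := by
      intro ds
      induction ds with
      | nil => intro F _ hF; exact hF
      | cons d ds ih =>
        intro F hd hF
        rw [List.foldl_cons]
        refine ih _ (fun e he => hd e (List.mem_cons_of_mem _ he)) fun i => ?_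
        by_cases hi : i = d.2
        · subst hi
          simp only [liftStep, Function.update_self, map_mul, map_inv, map_evG]
          rw [evG_congr (g := val) (fun s _ => hF s), evG_congr (g := val) (fun s _ => hF s), hrule]
          conv_lhs => rw [← List.dropLast_append_getLast? _ (hd d List.mem_cons_self)]
          rw [evG_append]
          simp [evG, List.dropLast_concat]
        · rw [liftStep, Function.update_of_ne hi]; exact hF i
    exact key _ _ (fun d hd => (hdok' d hd).2.1) hL0
  have hLev : ∀ w, σ (evG L w) = evG val w := fun w => by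
    rw [map_evG]; exact evG_congr fun s _ => hL s
  have hzker : ∀ r, fac D L r ∈ σ.ker := fun r => by
    simp only [fac, MonoidHom.mem_ker, map_mul, map_inv, hLev, hrule r, inv_mul_cancel]
  refine ⟨val, L, hval, hL, hzker, fun d hd => ?_⟩
  simp only [fac]
  rw [hLdef, foldl_liftStep_spec D D.defs L0 hpw hdok' d hd, inv_mul_cancel]

/-- Along a combination of closed paths the factors multiply to one. -/
theorem combo_eq_one [Finite Γ] (D : Data) (L : ℕ → Γ) (m : ℕ) (hm : 0 < m)
    (hc : ∀ r, fac D L r ∈ Subgroup.center Γ) (hexp : ∀ r, fac D L r ^ m = 1)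
    (c : List (ℕ × ℕ)) : evG (fac D L) (comboVec { D with p := m } c) = 1 := by
  set D' : Data := { D with p := m } with hD'
  have hr : ∀ r, evG L (ruleAt D' r).1 = evG L (ruleAt D' r).2 * fac D L r := fun r => by
    simp only [fac, hD', ruleAt, mul_inv_cancel_left]
  have hpath : ∀ e, evG (fac D L) (pathVec D' e) = 1 := by
    intro e
    unfold pathVec
    rcases D'.paths.getD e ([], []) with ⟨w, steps⟩
    simp only
    split
    · rename_i w' v hrun
      split_ifs with heq
      · have := runPath_spec D' L (fac D L) hc hexp hm hr steps w w' v hrun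
        rw [beq_iff_eq.1 heq] at this
        exact mul_eq_left.1 this.symm
      · rfl
    · rfl
  induction c with
  | nil => rfl
  | cons q c ih =>
    rw [show comboVec D' (q :: c) =
      (List.replicate q.2 (pathVec D' q.1)).flatten ++ comboVec D' c from rfl, evG_append, ih, mul_one]
    generalize q.2 = k
    induction k with
    | zero => rfl
    | succ k ihk => rw [List.replicate_succ, List.flatten_cons, evG_append, hpath, ihk, one_mul]

/-- A product in which all but one exponent vanish. -/
theorem prod_eq_pow {K : Type*} [CommGroup K] {m : ℕ} (z : ℕ → K) (hz : ∀ i, z i ^ m = 1)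
    (v : List ℕ) (nr t a : ℕ) (ht : t < nr) (hv : ∀ i ∈ v, i < nr)
    (hc : ∀ i < nr, z i = 1 ∨ v.count i % m = if i = t then a % m else 0) :
    evG z v = z t ^ a := by
  classical
  rw [evG, Finset.prod_list_map_count,
    Finset.prod_subset (s₂ := Finset.range nr) (fun i hi => Finset.mem_range.2 (hv i (List.mem_toFinset.1 hi)))
      (fun i _ hi => by rw [List.count_eq_zero.2 (fun h => hi (List.mem_toFinset.2 h)), pow_zero]),
    Finset.prod_eq_single t]
  · rcases hc t ht with h | h
    · rw [h, one_pow, one_pow]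
    · rw [if_pos rfl] at h
      rw [pow_eq_pow_mod _ (hz t), h, ← pow_eq_pow_mod _ (hz t)]
  · intro i hi hne
    rcases hc i (Finset.mem_range.1 hi) with h | h
    · rw [h, one_pow]
    · rw [if_neg hne] at h
      rw [pow_eq_pow_mod _ (hz i), h, pow_zero]
  · exact fun h => absurd (Finset.mem_range.2 ht) h

/-- A combination check modulo `m`: the exponent of `t` is `a`, the others away from `free` and the
definitions vanish. -/
def comboCheck (D : Data) (m : ℕ) (c : List (ℕ × ℕ)) (free : List ℕ) (t a : ℕ) : Bool :=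
  ((comboVec { D with p := m } c).all fun i => decide (i < D.rules.length)) &&
  decide (t < D.rules.length) &&
  (List.range D.rules.length).all fun i => free.contains i || D.defs.any (fun d => d.1 == i) ||
    (comboVec { D with p := m } c).count i % m == if i == t then a % m else 0

theorem combo_pow_eq_one [Finite Γ] (D : Data) (L : ℕ → Γ) (σ : Γ →* G)
    (hcen : σ.ker ≤ Subgroup.center Γ) {m : ℕ} (hm : 0 < m) (hker : ∀ r, fac D L r ∈ σ.ker)
    (hexp : ∀ z ∈ σ.ker, z ^ m = 1) (hdef : ∀ d ∈ D.defs, fac D L d.1 = 1) {free : List ℕ}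
    (hfree : ∀ i ∈ free, fac D L i = 1) {c : List (ℕ × ℕ)} {t a : ℕ}
    (h : comboCheck D m c free t a = true) : fac D L t ^ a = 1 := by
  simp only [comboCheck, Bool.and_eq_true, List.all_eq_true, decide_eq_true_eq, List.mem_range,
    Bool.or_eq_true, List.contains_iff_mem, List.any_eq_true, beq_iff_eq] at h
  obtain ⟨⟨h1, h2⟩, h3⟩ := h
  letI : CommGroup σ.ker :=
    { (inferInstance : Group σ.ker) with
      mul_comm := fun a b => Subtype.ext (Subgroup.mem_center_iff.1 (hcen b.2) a.1) }
  let Z : ℕ → σ.ker := fun i => ⟨fac D L i, hker i⟩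
  have := prod_eq_pow (m := m) Z (fun i => Subtype.ext (hexp _ (hker i)))
    (comboVec { D with p := m } c) D.rules.length t a h2 h1 (fun i hi => by
      rcases h3 i hi with (h | ⟨d, hd, rfl⟩) | h
      · exact Or.inl (Subtype.ext (hfree i h))
      · exact Or.inl (Subtype.ext (hdef d hd))
      · exact Or.inr h)
  have e := congrArg Subtype.val this
  rw [show (evG Z (comboVec { D with p := m } c)).1 = evG (fac D L) (comboVec { D with p := m } c) from
    map_evG σ.ker.subtype Z _, combo_eq_one D L m hm (fun r => hcen (hker r))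
      (fun r => hexp _ (hker r))] at e
  exact e.symm

/-- A stem extension of exponent `p` in which the rules of the sequence hold exactly is trivial. -/
theorem ker_eq_bot_of_zero [Finite Γ] (C : Coding G op one) (D : Data) [Fact D.p.Prime]
    (hpc : pcOK D = true) (hsize : sizeOK op one D = true) {M : ℕ}
    (hcard : Nat.card G = D.p ^ D.n * M) (hM : ¬ D.p ∣ M)
    (σ : Γ →* G) (hσ : Cfsg.IsStemExtension σ) (hexp : ∀ z ∈ σ.ker, z ^ D.p = 1)
    (val : ℕ → G) (L : ℕ → Γ) (hval : ∀ i, C.code (val i) = D.syms.getD i one)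
    (hL : ∀ i, σ (L i) = val i) (hzero : ∀ r, isZero D r = true → fac D L r = 1) :
    σ.ker = ⊥ := by
  classical
  have hp : D.p.Prime := Fact.out
  obtain ⟨hs, hcen, hder⟩ := hσ
  haveI : Finite G := Finite.of_surjective σ hs
  have hLev : ∀ w, σ (evG L w) = evG val w := fun w => by
    rw [map_evG]; exact evG_congr fun s _ => hL s
  set z : ℕ → Γ := fac D L with hzdef
  have hrz : ∀ r, evG L (ruleAt D r).1 = evG L (ruleAt D r).2 * z r := fun r => by
    simp only [hzdef, fac, mul_inv_cancel_left]
  letI : CommGroup σ.ker :=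
    { (inferInstance : Group σ.ker) with
      mul_comm := fun a b => Subtype.ext (Subgroup.mem_center_iff.1 (hcen b.2) a.1) }
  -- the section over the Sylow subgroup
  simp only [pcOK, List.all_eq_true, List.mem_range, Bool.and_eq_true, List.any_eq_true,
    Bool.or_eq_true, beq_iff_eq, decide_eq_true_eq] at hpc
  let S : ℕ → Subgroup Γ := fun i => Subgroup.closure (L '' {k | i ≤ k ∧ k < D.n})
  have hgenS : ∀ i k, i ≤ k → k < D.n → L k ∈ S i := fun i k h1 h2 =>
    Subgroup.subset_closure ⟨k, ⟨h1, h2⟩, rfl⟩
  have hwS : ∀ i (w : List ℕ), (∀ s ∈ w, i < s ∧ s < D.n) → evG L w ∈ S (i + 1) := fun i w hw =>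
    evG_mem (S := (S (i + 1)).toSubmonoid) fun s hs => hgenS _ _ (hw s hs).1 (hw s hs).2
  have hSn : S D.n = ⊥ := by
    simp only [S]
    rw [Subgroup.closure_eq_bot_iff]
    rintro x ⟨k, hk, rfl⟩
    have h1 := hk.1
    have h2 := hk.2
    omega
  have hStep : ∀ i < D.n, Nat.card (S i) ≤ D.p * Nat.card (S (i + 1)) := by
    intro i hi
    obtain ⟨⟨r, -, hrz', hr2⟩, hconj⟩ := hpc i hi
    refine card_closure_step hp.pos (L i) (S (i + 1)) ?_ ?_ _ ?_
    · have h := hrz r
      rw [hzero r hrz'.1, mul_one, hrz'.2] at h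
      rw [show L i ^ D.p = evG L (List.replicate D.p i) by
        rw [evG, List.map_replicate, List.prod_replicate], h]
      exact hwS i _ hr2
    · intro x hx
      induction hx using Subgroup.closure_induction with
      | mem y hy =>
        obtain ⟨j, ⟨hij, hjn⟩, rfl⟩ := hy
        obtain ⟨r, -, ⟨⟨hz0, hl⟩, hhd⟩, htl⟩ := (hconj j hjn).resolve_left (by omega)
        have h := hrz r
        rw [hzero r hz0, mul_one, hl] at h
        obtain ⟨tl, htl'⟩ := List.head?_eq_some_iff.1 hhd
        rw [htl'] at h htl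
        have e : L j * L i = L i * evG L tl := by simpa [evG] using h
        rw [mul_assoc, e, inv_mul_cancel_left]
        exact hwS i tl htl
      | one => simp
      | mul a b _ _ ha hb =>
        have := mul_mem ha hb
        simpa [mul_assoc] using this
      | inv a _ ha =>
        have := inv_mem ha
        simpa [mul_assoc] using this
    · rintro x ⟨k, ⟨h1, h2⟩, rfl⟩
      rcases h1.eq_or_lt with rfl | h
      · exact Or.inl rfl
      · exact Or.inr (hgenS _ _ h h2)
  have hcardS : ∀ d ≤ D.n, Nat.card (S (D.n - d)) ≤ D.p ^ d := by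
    intro d
    induction d with
    | zero => intro _; rw [Nat.sub_zero, hSn, Subgroup.card_bot, pow_zero]
    | succ d ih =>
      intro hd
      refine (hStep _ (by omega)).trans ?_
      rw [show D.n - (d + 1) + 1 = D.n - d by omega, pow_succ']
      exact Nat.mul_le_mul_left _ (ih (by omega))
  have hS0 : Nat.card (S 0) ≤ D.p ^ D.n := by simpa using hcardS D.n le_rfl
  -- the image is a Sylow subgroup
  simp only [sizeOK, Bool.and_eq_true, decide_eq_true_eq, beq_iff_eq] at hsize
  set E : Subgroup G := (S 0).map σ with hE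
  have hEge : D.p ^ D.n ≤ Nat.card E := by
    have hnd := (increasing_nodup _ hsize.2).imp (fun h => ne_of_lt h)
    let f : Fin D.sorted.length → E := fun k =>
      ⟨σ (evG L ((List.range D.n).flatMap fun i =>
          List.replicate (D.sorted[k.val] / D.p ^ i % D.p) i)),
        Subgroup.mem_map_of_mem σ (evG_mem (S := (S 0).toSubmonoid) fun s hs => by
          obtain ⟨i, hi, hs'⟩ := List.mem_flatMap.1 hs
          rw [List.eq_of_mem_replicate hs']
          exact hgenS 0 i (Nat.zero_le _) (List.mem_range.1 hi))⟩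
    have hf : Function.Injective f := by
      intro a b hab
      have h := congrArg (fun x : E => C.code x.1) hab
      simp only [f, hLev, evG_code C val D.syms _ hval] at h
      by_contra hne
      have hne' : a.val ≠ b.val := fun e => hne (Fin.ext e)
      have hinj := List.pairwise_iff_getElem.1 hnd
      rcases Nat.lt_or_gt_of_ne hne' with hl | hl
      · have := hinj a.val b.val (by simp) (by simp) hl
        simp only [List.getElem_map, prodCode] at this
        exact this h
      · have := hinj b.val a.val (by simp) (by simp) hl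
        simp only [List.getElem_map, prodCode] at this
        exact this h.symm
    have := Nat.card_le_card_of_injective f hf
    rwa [Nat.card_fin, hsize.1.2] at this
  have hEle : Nat.card E ≤ Nat.card (S 0) := by
    have := Nat.card_le_card_of_surjective _ (σ.subgroupMap_surjective (S 0))
    exact this
  have hEeq : Nat.card E = D.p ^ D.n := le_antisymm (hEle.trans hS0) hEge
  have hinj : ∀ x ∈ S 0, σ x = 1 → x = 1 := by
    intro x hx h1
    have hb : Function.Bijective (σ.subgroupMap (S 0)) :=
      (Nat.bijective_iff_surjective_and_card _).2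
        ⟨σ.subgroupMap_surjective (S 0), le_antisymm (hS0.trans hEeq.ge) hEle⟩
    have : (⟨x, hx⟩ : S 0) = 1 := hb.1 (Subtype.ext (h1.trans σ.map_one.symm))
    exact congrArg Subtype.val this
  let ES : Sylow D.p G := Sylow.ofCard E (by
    rw [hEeq, hcard, Nat.factorization_mul (pow_ne_zero _ hp.ne_zero)
      (fun h0 => hM (by rw [h0]; exact dvd_zero _)), Finsupp.add_apply, hp.factorization_pow,
      Finsupp.single_eq_same, Nat.factorization_eq_zero_of_not_dvd hM, add_zero])
  refine H97.ker_eq_bot_of_sylow ⟨hs, hcen, hder⟩ fun q hq P x hxP hxker hxcomm => ?_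
  by_cases hqp : q = D.p
  swap
  · by_contra hx1
    obtain ⟨a, ha⟩ := P.isPGroup' ⟨x, hxP⟩
    have h1 : orderOf x ∣ q ^ a := orderOf_dvd_of_pow_eq_one (congrArg Subtype.val ha)
    have h2 : orderOf x ∣ D.p := orderOf_dvd_of_pow_eq_one (hexp _ hxker)
    rcases (Nat.dvd_prime hp).1 h2 with h | h
    · exact hx1 (orderOf_eq_one_iff.1 h)
    · rw [h] at h1
      exact hqp ((Nat.prime_dvd_prime_iff_eq hp hq.out).1 (hp.dvd_of_dvd_pow h1)).symm
  subst hqp
  obtain ⟨g, hg⟩ := MulAction.exists_smul_eq G (P.mapSurjective hs) ES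
  obtain ⟨g, rfl⟩ := hs g
  have hconjE : ∀ a ∈ P, σ (g * a * g⁻¹) ∈ E := fun a ha => by
    have : σ (g * a * g⁻¹) ∈ ((σ g • P.mapSurjective hs : Sylow D.p G) : Subgroup G) := by
      rw [Sylow.coe_subgroup_smul]
      refine ⟨σ a, ?_, by simp [MulAut.conj_apply]⟩
      show σ a ∈ (P : Subgroup Γ).map σ
      exact Subgroup.mem_map_of_mem σ ha
    rw [hg] at this
    exact this
  have hsplit : ∀ a ∈ P, ∃ s ∈ S 0, ∃ k ∈ σ.ker, g * a * g⁻¹ = s * k := fun a ha => by
    obtain ⟨s, hs0, hs1⟩ := hconjE a ha
    exact ⟨s, hs0, s⁻¹ * (g * a * g⁻¹), by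
      rw [MonoidHom.mem_ker, map_mul, map_inv, hs1, inv_mul_cancel], (mul_inv_cancel_left _ _).symm⟩
  have hxS : g * x * g⁻¹ ∈ S 0 := by
    have h1 : x ∈ ⁅(P : Subgroup Γ), (P : Subgroup Γ)⁆ := by
      rw [← Subgroup.map_subtype_commutator]
      exact ⟨⟨x, hxP⟩, hxcomm, rfl⟩
    have hle : ⁅(P : Subgroup Γ), (P : Subgroup Γ)⁆ ≤ (S 0).comap (MulAut.conj g).toMonoidHom := by
      rw [Subgroup.commutator_le]
      intro a ha b hb
      obtain ⟨s, hs0, k, hk, ea⟩ := hsplit a ha
      obtain ⟨t, ht0, l, hl, eb⟩ := hsplit b hb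
      show MulAut.conj g ⁅a, b⁆ ∈ S 0
      have hk' := fun y : Γ => Subgroup.mem_center_iff.1 (hcen hk) y
      have hl' := fun y : Γ => Subgroup.mem_center_iff.1 (hcen hl) y
      have hst : ⁅s * k, t * l⁆ = ⁅s, t⁆ := by
        simp only [commutatorElement_def]
        have e1 : s * k * (t * l) = s * t * (k * l) := by
          rw [mul_assoc s k, ← mul_assoc k t l, ← hk' t, mul_assoc t k l, ← mul_assoc]
        have e2 : t * l * (s * k) = t * s * (k * l) := by
          rw [mul_assoc t l, ← mul_assoc l s k, ← hl' s, mul_assoc s l k, ← hl' k, ← mul_assoc]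
        calc s * k * (t * l) * (s * k)⁻¹ * (t * l)⁻¹
            = (s * k * (t * l)) * (t * l * (s * k))⁻¹ := by group
          _ = s * t * s⁻¹ * t⁻¹ := by rw [e1, e2]; group
      have e : MulAut.conj g ⁅a, b⁆ = ⁅s * k, t * l⁆ := by
        rw [← ea, ← eb, map_commutatorElement, MulAut.conj_apply, MulAut.conj_apply]
      rw [e, hst, commutatorElement_def]
      exact mul_mem (mul_mem (mul_mem hs0 ht0) (inv_mem hs0)) (inv_mem ht0)
    exact hle h1
  have h2 := hinj _ hxS (by
    rw [map_mul, map_mul, map_inv, MonoidHom.mem_ker.1 hxker, mul_one, mul_inv_cancel])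
  exact conj_eq_one_iff.1 h2

end H39.M22
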