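import Cfsg.Agent.H39.M22.Rep3

/-!
Checks for the 6-dimensional representation.
-/

set_option autoImplicit false
set_option maxRecDepth 100000

namespace H39.M22.Rep3

theorem par_ok : data.P.ok = true := by decide +kernel
theorem gens_ok : (List.range 2).all data.genOK = true := by decide +kernel
theorem act0_ok : (List.range data.blocks.length).all (data.actOK 0) = true := by decide +kernel
theorem act1_ok : (List.range data.blocks.length).all (data.actOK 1) = true := by decide +kernel
theorem proj_ok : (List.range 3).all data.projOK = true := by decide +kernel
theorem alg_ok : data.algOK = true := by decide +kernel
theorem span_ok : data.spanOK = true := by decide +kernel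
theorem words_ok : data.wordsOK (word1 ++ word2) (word2 ++ word1) scalar = true := by decide +kernel

end H39.M22.Rep3
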