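import Mathlib.Algebra.QuadraticAlgebra.Defs
import Mathlib.Data.Matrix.Mul
import Mathlib.Data.ZMod.Basic

/-!
Vectors over a quadratic extension of a prime field, packed in lanes of sixteen bits.
-/

set_option autoImplicit false

namespace H39.M22

/-- The lane `k`. -/
def lane (n k : ℕ) : ℕ := (n >>> (16 * k)) % 65536

theorem lane_zero (n : ℕ) : lane n 0 = n % 65536 := by simp [lane]

theorem lane_succ (n k : ℕ) : lane n (k + 1) = lane (n / 65536) k := by
  simp only [lane, Nat.shiftRight_eq_div_pow, Nat.div_div_eq_div_mul]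
  rw [show 16 * (k + 1) = 16 + 16 * k by ring, pow_add]
  rfl

theorem lane_zero_left (k : ℕ) : lane 0 k = 0 := by simp [lane]

theorem lane_add : ∀ (k x y : ℕ), (∀ j ≤ k, lane x j + lane y j < 65536) →
    lane (x + y) k = lane x k + lane y k
  | 0, x, y, h => by
    have := h 0 le_rfl
    simp only [lane_zero] at this ⊢
    omega
  | k + 1, x, y, h => by
    have h0 := h 0 (Nat.zero_le _)
    simp only [lane_zero] at h0
    rw [lane_succ, lane_succ, lane_succ, show (x + y) / 65536 = x / 65536 + y / 65536 by omega]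
    exact lane_add k _ _ fun j hj => by
      have := h (j + 1) (by omega)
      rwa [lane_succ, lane_succ] at this

theorem lane_mul : ∀ (c x k B : ℕ), (∀ j ≤ k, lane x j ≤ B) → c * B < 65536 →
    lane (c * x) k = c * lane x k
  | 0, x, k, B, _, _ => by simp [lane_zero_left]
  | c + 1, x, k, B, h, hc => by
    have hcB : c * B + B < 65536 := by rwa [← Nat.succ_mul]
    have ih : ∀ j ≤ k, lane (c * x) j = c * lane x j := fun j hj =>
      lane_mul c x j B (fun i hi => h i (hi.trans hj)) (by omega)
    rw [Nat.succ_mul, lane_add k, ih k le_rfl, Nat.succ_mul]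
    intro j hj
    rw [ih j hj]
    have h1 := h j hj
    have h2 : c * lane x j ≤ c * B := Nat.mul_le_mul_left c h1
    omega

theorem lane_land_le (x m k : ℕ) : lane (x &&& m) k ≤ lane m k := by
  simp only [lane, Nat.shiftRight_and_distrib]
  rw [show (65536 : ℕ) = 2 ^ 16 from rfl, Nat.and_mod_two_pow]
  exact Nat.and_le_right

/-- Pack the first `k` values. -/
def packLanes : ℕ → (ℕ → ℕ) → ℕ
  | 0, _ => 0
  | k + 1, f => f 0 + 65536 * packLanes k fun j => f (j + 1)

theorem lane_packLanes : ∀ (n : ℕ) (f : ℕ → ℕ), (∀ j, f j < 65536) → ∀ k < n,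
    lane (packLanes n f) k = f k
  | n + 1, f, hf, 0, _ => by
    rw [lane_zero, packLanes, Nat.add_mul_mod_self_left, Nat.mod_eq_of_lt (hf 0)]
  | n + 1, f, hf, k + 1, hk => by
    rw [lane_succ, packLanes, Nat.add_mul_div_left _ _ (by norm_num : 0 < 65536),
      Nat.div_eq_of_lt (hf 0), zero_add,
      lane_packLanes n (fun j => f (j + 1)) (fun j => hf (j + 1)) k (by omega)]

/-- The parameters: characteristic and the equation `i ^ 2 = A + B i`; `m7` has sevens in all lanes. -/
structure Par where
  d : ℕ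
  p : ℕ
  A : ℕ
  B : ℕ
  m7 : ℕ

/-- The ring of coefficients. -/
abbrev QR (P : Par) : Type := QuadraticAlgebra (ZMod P.p) (P.A : ZMod P.p) (P.B : ZMod P.p)

/-- Parameters fit the lanes. -/
def Par.ok (P : Par) : Bool :=
  decide (P.A ≤ 7) && decide (P.B ≤ 7) && decide (P.d ≤ 40) && decide (0 < P.p) &&
    decide (P.p ≤ 65536) && (List.range P.d).all fun k => decide (lane P.m7 k ≤ 7)

/-- The vector coded by a pair. -/
def vec (P : Par) (v : ℕ × ℕ) : Fin P.d → QR P := fun k => ⟨(lane v.1 k : ℕ), (lane v.2 k : ℕ)⟩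

/-- The scalar coded by a pair. -/
def scl (P : Par) (c : ℕ × ℕ) : QR P := ⟨(c.1 : ℕ), (c.2 : ℕ)⟩

/-- Add one multiple to an accumulator. -/
def addTerm (P : Par) (t : (ℕ × ℕ) × ℕ × ℕ) (acc : ℕ × ℕ) : ℕ × ℕ :=
  (t.1.1 * t.2.1 + (P.A * t.1.2) * t.2.2 + acc.1,
    t.1.1 * t.2.2 + t.1.2 * t.2.1 + (P.B * t.1.2) * t.2.2 + acc.2)

/-- A linear combination. -/
def lin (P : Par) (L : List ((ℕ × ℕ) × ℕ × ℕ)) : ℕ × ℕ := L.foldr (addTerm P) (0, 0)

/-- All coefficients and vectors are small. -/
def smallT (P : Par) (L : List ((ℕ × ℕ) × ℕ × ℕ)) : Bool :=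
  decide (L.length ≤ 64) && L.all fun t =>
    decide (t.1.1 ≤ 7) && decide (t.1.2 ≤ 7) && t.2.1 &&& P.m7 == t.2.1 && t.2.2 &&& P.m7 == t.2.2

theorem small_lane {P : Par} (hP : P.ok = true) {x : ℕ} (h : (x &&& P.m7 == x) = true) {j : ℕ}
    (hj : j < P.d) : lane x j ≤ 7 := by
  simp only [Par.ok, Bool.and_eq_true, List.all_eq_true, decide_eq_true_eq, List.mem_range] at hP
  rw [← beq_iff_eq.1 h]
  exact (lane_land_le _ _ _).trans (hP.2 j hj)

theorem lin_spec {P : Par} (hP : P.ok = true) : ∀ (L : List ((ℕ × ℕ) × ℕ × ℕ)), smallT P L = true →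
    (∀ j < P.d, lane (lin P L).1 j ≤ 882 * L.length ∧ lane (lin P L).2 j ≤ 882 * L.length) ∧
      vec P (lin P L) = (L.map fun t => scl P t.1 • vec P t.2).sum
  | [], _ => by
    refine ⟨fun j _ => by simp [lin, lane_zero_left], ?_⟩
    funext k
    ext <;> simp [vec, lin, lane_zero_left]
  | t :: L, hL => by
    have hP' := hP
    simp only [Par.ok, Bool.and_eq_true, decide_eq_true_eq] at hP'
    obtain ⟨⟨⟨⟨⟨hA, hB⟩, -⟩, -⟩, -⟩, -⟩ := hP'
    simp only [smallT, Bool.and_eq_true, decide_eq_true_eq, List.all_cons, List.length_cons] at hL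
    obtain ⟨hlen, ⟨⟨⟨ha, hb⟩, hre⟩, him⟩, hall⟩ := hL
    obtain ⟨ihb, ihv⟩ := lin_spec hP L (by
      simp only [smallT, Bool.and_eq_true, decide_eq_true_eq]
      exact ⟨by omega, hall⟩)
    obtain ⟨⟨a, b⟩, X, Y⟩ := t
    simp only at ha hb hre him
    have hX : ∀ j < P.d, lane X j ≤ 7 := fun j hj => small_lane hP hre hj
    have hY : ∀ j < P.d, lane Y j ≤ 7 := fun j hj => small_lane hP him hj
    have hAb : P.A * b ≤ 49 := Nat.mul_le_mul hA hb
    have hBb : P.B * b ≤ 49 := Nat.mul_le_mul hB hb
    have m1 : ∀ c ≤ 49, ∀ j < P.d, lane (c * X) j = c * lane X j ∧ lane (c * Y) j = c * lane Y j :=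
      fun c hc j hj => ⟨lane_mul c X j 7 (fun i hi => hX i (by omega)) (by omega),
        lane_mul c Y j 7 (fun i hi => hY i (by omega)) (by omega)⟩
    have bd : ∀ j < P.d, ∀ c ≤ 49, c * lane X j ≤ 343 ∧ c * lane Y j ≤ 343 := fun j hj c hc =>
      ⟨Nat.mul_le_mul hc (hX j hj), Nat.mul_le_mul hc (hY j hj)⟩
    have r1 : ∀ j < P.d, lane (lin P (((a, b), X, Y) :: L)).1 j =
        a * lane X j + P.A * b * lane Y j + lane (lin P L).1 j := by
      intro j hj
      show lane (a * X + P.A * b * Y + (lin P L).1) j = _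
      have inner : ∀ i ≤ j, lane (a * X + P.A * b * Y) i = a * lane X i + P.A * b * lane Y i := by
        intro i hi
        rw [lane_add i, (m1 a (by omega) i (by omega)).1, (m1 _ hAb i (by omega)).2]
        intro l hl
        rw [(m1 a (by omega) l (by omega)).1, (m1 _ hAb l (by omega)).2]
        have := (bd l (by omega) a (by omega)).1
        have := (bd l (by omega) _ hAb).2
        omega
      rw [lane_add j, inner j le_rfl]
      intro i hi
      rw [inner i hi]
      have := (bd i (by omega) a (by omega)).1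
      have := (bd i (by omega) _ hAb).2
      have := (ihb i (by omega)).1
      omega
    have r2 : ∀ j < P.d, lane (lin P (((a, b), X, Y) :: L)).2 j =
        a * lane Y j + b * lane X j + P.B * b * lane Y j + lane (lin P L).2 j := by
      intro j hj
      show lane (a * Y + b * X + P.B * b * Y + (lin P L).2) j = _
      have i1 : ∀ i ≤ j, lane (a * Y + b * X) i = a * lane Y i + b * lane X i := by
        intro i hi
        rw [lane_add i, (m1 a (by omega) i (by omega)).2, (m1 b (by omega) i (by omega)).1]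
        intro l hl
        rw [(m1 a (by omega) l (by omega)).2, (m1 b (by omega) l (by omega)).1]
        have := (bd l (by omega) a (by omega)).2
        have := (bd l (by omega) b (by omega)).1
        omega
      have i2 : ∀ i ≤ j, lane (a * Y + b * X + P.B * b * Y) i =
          a * lane Y i + b * lane X i + P.B * b * lane Y i := by
        intro i hi
        rw [lane_add i, i1 i hi, (m1 _ hBb i (by omega)).2]
        intro l hl
        rw [i1 l (by omega), (m1 _ hBb l (by omega)).2]
        have := (bd l (by omega) a (by omega)).2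
        have := (bd l (by omega) b (by omega)).1
        have := (bd l (by omega) _ hBb).2
        omega
      rw [lane_add j, i2 j le_rfl]
      intro i hi
      rw [i2 i hi]
      have := (bd i (by omega) a (by omega)).2
      have := (bd i (by omega) b (by omega)).1
      have := (bd i (by omega) _ hBb).2
      have := (ihb i (by omega)).2
      omega
    refine ⟨fun j hj => ?_, ?_⟩
    · rw [r1 j hj, r2 j hj, List.length_cons]
      have := (bd j hj a (by omega))
      have := (bd j hj b (by omega)).1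
      have := (bd j hj _ hAb).2
      have := (bd j hj _ hBb).2
      have := ihb j hj
      have e1 : a * lane X j ≤ 49 := Nat.mul_le_mul ha (hX j hj)
      have e2 : a * lane Y j ≤ 49 := Nat.mul_le_mul ha (hY j hj)
      have e3 : b * lane X j ≤ 49 := Nat.mul_le_mul hb (hX j hj)
      constructor <;> omega
    · rw [List.map_cons, List.sum_cons, ← ihv]
      funext k
      ext
      · simp [vec, scl, r1 k k.isLt]
      · simp [vec, scl, r2 k k.isLt]

/-- Equality of two coded vectors modulo `p`. -/
def cg (P : Par) (x y : ℕ × ℕ) : Bool :=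
  (List.range P.d).all fun k => lane x.1 k % P.p == lane y.1 k % P.p && lane x.2 k % P.p == lane y.2 k % P.p

theorem vec_eq_of_cg {P : Par} {x y : ℕ × ℕ} (h : cg P x y = true) : vec P x = vec P y := by
  simp only [cg, List.all_eq_true, List.mem_range, Bool.and_eq_true, beq_iff_eq] at h
  funext k
  obtain ⟨h1, h2⟩ := h k k.isLt
  ext <;> simp only [vec]
  · exact (ZMod.natCast_eq_natCast_iff' _ _ _).2 h1
  · exact (ZMod.natCast_eq_natCast_iff' _ _ _).2 h2

/-- Reduce every lane. -/
def normV (P : Par) (v : ℕ × ℕ) : ℕ × ℕ :=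
  (packLanes P.d fun k => lane v.1 k % P.p, packLanes P.d fun k => lane v.2 k % P.p)

theorem vec_normV {P : Par} (hP : P.ok = true) (v : ℕ × ℕ) : vec P (normV P v) = vec P v := by
  simp only [Par.ok, Bool.and_eq_true, decide_eq_true_eq] at hP
  have hlt : ∀ n, n % P.p < 65536 := fun n => lt_of_lt_of_le (Nat.mod_lt _ hP.1.1.2) hP.1.2
  funext k
  ext <;> simp only [vec, normV] <;>
    rw [lane_packLanes P.d _ (fun j => hlt _) k k.isLt, ZMod.natCast_mod]

/-- The matrix with the coded columns. -/
def matOf (P : Par) (cols : List (ℕ × ℕ)) : Matrix (Fin P.d) (Fin P.d) (QR P) :=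
  fun i k => vec P (cols.getD k (0, 0)) i

/-- Terms of a matrix times a vector. -/
def mvT (P : Par) (cols : List (ℕ × ℕ)) (v : ℕ × ℕ) : List ((ℕ × ℕ) × ℕ × ℕ) :=
  (List.range P.d).map fun k => ((lane v.1 k, lane v.2 k), cols.getD k (0, 0))

theorem sum_mvT (P : Par) (cols : List (ℕ × ℕ)) (v : ℕ × ℕ) :
    ((mvT P cols v).map fun t => scl P t.1 • vec P t.2).sum =
      Matrix.mulVec (matOf P cols) (vec P v) := by
  rw [mvT, List.map_map]
  funext i
  rw [Matrix.mulVec, dotProduct]
  have e : ∀ n (g : ℕ → Fin P.d → QR P),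
      ((List.range n).map g).sum i = ((List.range n).map fun k => g k i).sum := by
    intro n g
    induction n with
    | zero => rfl
    | succ n ih => simp [List.range_succ, ih]
  rw [e, ← List.sum_toFinset _ (List.nodup_range), List.toFinset_range, Finset.sum_range]
  refine Finset.sum_congr rfl fun k _ => ?_
  rw [Function.comp_apply, Pi.smul_apply, smul_eq_mul, mul_comm]
  rfl

/-- Checked equality of two combinations. -/
def eqLin (P : Par) (L M : List ((ℕ × ℕ) × ℕ × ℕ)) : Bool :=
  smallT P L && smallT P M && cg P (lin P L) (lin P M)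

theorem eqLin_spec {P : Par} (hP : P.ok = true) {L M : List ((ℕ × ℕ) × ℕ × ℕ)}
    (h : eqLin P L M = true) :
    (L.map fun t => scl P t.1 • vec P t.2).sum = (M.map fun t => scl P t.1 • vec P t.2).sum := by
  simp only [eqLin, Bool.and_eq_true] at h
  obtain ⟨⟨h1, h2⟩, h3⟩ := h
  rw [← (lin_spec hP L h1).2, ← (lin_spec hP M h2).2]
  exact vec_eq_of_cg h3

/-- The standard vector. -/
def unitV (k : ℕ) : ℕ × ℕ := (2 ^ (16 * k), 0)

theorem vec_unitV (P : Par) (k : Fin P.d) : vec P (unitV k) = Pi.single k 1 := by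
  funext i
  have : lane (2 ^ (16 * (k : ℕ))) i = if (i : ℕ) = k then 1 else 0 := by
    rw [lane, Nat.shiftRight_eq_div_pow]
    rcases lt_trichotomy (i : ℕ) k with h | h | h
    · rw [if_neg h.ne, Nat.pow_div (by omega) two_pos,
        show 16 * (k : ℕ) - 16 * i = 16 + (16 * (k : ℕ) - 16 * i - 16) by omega, pow_add]
      exact Nat.mul_mod_right _ _
    · rw [if_pos h, h, Nat.div_self (Nat.two_pow_pos _)]
    · rw [if_neg h.ne', Nat.div_eq_of_lt (Nat.pow_lt_pow_right (by norm_num) (by omega))]
  rcases eq_or_ne i k with h | h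
  · subst h; ext <;> simp [vec, unitV, this, lane_zero_left, QuadraticAlgebra.re_one, QuadraticAlgebra.im_one]
  · ext <;> simp [vec, unitV, this, lane_zero_left, Fin.val_ne_of_ne h, Pi.single_eq_of_ne h]

theorem scl_one (P : Par) : scl P (1, 0) = 1 := by
  ext <;> simp [scl, QuadraticAlgebra.re_one, QuadraticAlgebra.im_one]

end H39.M22
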