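import Cfsg.Agent.H97.SchurCertDefs

/-!
Certificate data: the 2-part of the multiplier of M22 is cyclic of order at most four.
-/

set_option maxRecDepth 20000
set_option autoImplicit false

namespace H39.M22

/-- Sylow sequence, rules, paths. -/
def upData : H97.SchurCert.Data where
  p := 2
  n := 7
  syms := [
    982703393428736138407086551155033216,
    973054518210042674313238929715267616,
    966299849372061425927814308339959296,
    956870970805943958474619352614450336,
    984713093390188445415386470434743936,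
    972585098812262587711849628614283552,
    962320813022503292100522067620308608,
    984642106790182772418052422371652672,
    961347758236219406827821119592386848,
    974940748812552984460868123528180224]
  rules := [
    ([0, 0], [3]),
    ([1, 1], []),
    ([2, 2], []),
    ([3, 3], [6]),
    ([4, 4], []),
    ([5, 5], []),
    ([6, 6], []),
    ([1, 0], [0, 1, 4]),
    ([2, 0], [0, 2, 3, 4, 5, 6]),
    ([2, 1], [1, 2, 6]),
    ([3, 0], [0, 3]),
    ([3, 1], [1, 3, 5]),
    ([3, 2], [2, 3, 5, 6]),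
    ([4, 0], [0, 4, 5]),
    ([4, 1], [1, 4]),
    ([4, 2], [2, 4, 5, 6]),
    ([4, 3], [3, 4, 6]),
    ([5, 0], [0, 5, 6]),
    ([5, 1], [1, 5]),
    ([5, 2], [2, 5]),
    ([5, 3], [3, 5]),
    ([5, 4], [4, 5]),
    ([6, 0], [0, 6]),
    ([6, 1], [1, 6]),
    ([6, 2], [2, 6]),
    ([6, 3], [3, 6]),
    ([6, 4], [4, 6]),
    ([6, 5], [5, 6]),
    ([7, 0, 1], [0, 1, 4, 5, 7]),
    ([7, 2], [2, 5, 6, 7]),
    ([7, 3], [0, 1, 2, 5, 6, 7]),
    ([7, 4], [0, 1, 2, 3, 4, 6, 7]),
    ([7, 5], [3, 4, 7]),
    ([7, 6], [6, 7]),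
    ([8, 1], [1, 8]),
    ([8, 2], [3, 4, 6, 8]),
    ([8, 3], [1, 2, 4, 6, 8]),
    ([8, 4], [1, 4, 5, 6, 8]),
    ([8, 5], [6, 8]),
    ([8, 6], [5, 8]),
    ([9, 0, 1, 2, 3], [0, 1, 2, 6, 9]),
    ([9, 4], [4, 5, 6, 9]),
    ([9, 6], [0, 1, 2, 9])]
  defs := [(0, 3), (7, 4), (11, 5), (3, 6)]
  targets := [1, 2, 4, 5, 6, 9, 10, 12, 13, 14, 15, 16, 17, 18, 19, 20, 21, 22, 23, 24, 25, 26, 27, 8]
  paths := [
    ([0, 0, 0], [(0, 0, true), (0, 10, true), (1, 0, false)]),
    ([1, 0, 0], [(0, 7, true), (2, 13, true), (1, 7, true), (0, 0, true), (0, 11, true), (2, 21, true), (3, 21, true), (2, 4, true), (2, 5, true), (1, 0, false)]),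
    ([1, 1, 0], [(0, 1, true), (1, 4, false), (1, 1, false), (2, 14, false), (0, 7, false), (1, 7, false)]),
    ([2, 0, 0], [(0, 8, true), (5, 22, true), (4, 17, true), (3, 13, true), (2, 10, true), (1, 8, true), (0, 0, true), (0, 12, true), (3, 25, true), (2, 20, true), (1, 3, true), (1, 27, true), (2, 6, true), (1, 21, true), (2, 5, true), (2, 25, true), (1, 16, true), (3, 6, true), (2, 4, true), (2, 5, true), (2, 6, true), (1, 0, false)]),
    ([2, 1, 0], [(0, 9, true), (2, 22, true), (1, 8, true), (0, 7, true), (2, 15, true), (5, 25, true), (4, 20, true), (3, 16, true), (5, 27, true), (6, 6, true), (5, 21, true), (4, 4, true), (4, 5, true), (4, 6, true), (4, 4, false), (5, 6, false), (5, 5, false), (6, 27, false), (4, 21, false), (5, 26, false), (4, 27, false), (3, 25, false), (1, 9, false), (2, 11, false), (3, 14, false), (4, 18, false), (5, 23, false), (0, 8, false), (1, 7, false)]),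
    ([2, 1, 1], [(0, 9, true), (2, 23, true), (1, 9, true), (0, 1, true), (1, 6, true), (1, 1, false)]),
    ([2, 2, 0], [(0, 2, true), (1, 6, false), (1, 5, false), (2, 27, false), (1, 4, false), (2, 21, false), (3, 26, false), (2, 6, false), (1, 26, false), (1, 3, false), (2, 16, false), (3, 20, false), (4, 25, false), (3, 6, false), (3, 5, false), (4, 27, false), (2, 21, false), (3, 26, false), (1, 2, false), (2, 12, false), (3, 15, false), (4, 19, false), (5, 24, false), (0, 8, false), (1, 8, false)]),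
    ([2, 2, 1], [(0, 2, true), (1, 6, false), (1, 2, false), (2, 24, false), (0, 9, false), (1, 9, false)]),
    ([3, 1, 0], [(0, 11, true), (2, 17, true), (1, 10, true), (0, 7, true), (2, 16, true), (4, 27, true), (5, 6, true), (3, 21, false), (1, 11, false), (0, 10, false), (1, 7, false)]),
    ([3, 1, 1], [(0, 11, true), (2, 18, true), (1, 11, true), (0, 1, true), (1, 5, true), (1, 1, false)]),
    ([3, 2, 0], [(0, 12, true), (3, 22, true), (2, 17, true), (1, 10, true), (0, 8, true), (5, 25, true), (4, 20, true), (3, 16, true), (2, 3, true), (2, 26, true), (3, 6, true), (4, 27, true), (3, 5, true), (3, 6, true), (3, 5, false), (2, 21, false), (3, 6, false), (2, 27, false), (2, 3, false), (3, 20, false), (4, 25, false), (1, 12, false), (0, 10, false), (1, 8, false)]),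
    ([3, 2, 1], [(0, 12, true), (3, 23, true), (2, 18, true), (1, 11, true), (0, 9, true), (2, 25, true), (3, 27, true), (4, 27, true), (3, 5, true), (3, 6, true), (3, 6, false), (3, 5, false), (4, 27, false), (1, 12, false), (2, 19, false), (0, 11, false), (1, 9, false)]),
    ([3, 2, 2], [(0, 12, true), (3, 24, true), (2, 19, true), (1, 12, true), (0, 2, true), (2, 27, true), (1, 5, true), (1, 6, true), (1, 2, false)]),
    ([3, 3, 0], [(0, 3, true), (0, 22, true), (1, 3, false), (0, 10, false), (1, 10, false)]),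
    ([3, 3, 2], [(0, 3, true), (0, 24, true), (1, 5, false), (2, 6, false), (1, 27, false), (1, 3, false), (2, 20, false), (3, 25, false), (0, 12, false), (1, 12, false)]),
    ([3, 3, 3], [(0, 3, true), (0, 25, true), (1, 3, false)]),
    ([4, 0, 0], [(0, 13, true), (2, 17, true), (1, 13, true), (0, 0, true), (2, 5, true), (0, 16, false), (1, 0, false)]),
    ([4, 1, 0], [(0, 14, true), (1, 13, true), (0, 7, true), (2, 4, true), (2, 4, false), (3, 21, false), (1, 14, false), (2, 18, false), (0, 13, false), (1, 7, false)]),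
    ([4, 2, 0], [(0, 15, true), (3, 22, true), (2, 17, true), (1, 13, true), (0, 8, true), (5, 26, true), (4, 21, true), (3, 4, true), (4, 27, true), (3, 5, true), (3, 27, true), (4, 6, true), (3, 4, false), (4, 6, false), (2, 16, false), (3, 25, false), (3, 5, false), (4, 27, false), (1, 15, false), (2, 19, false), (0, 13, false), (1, 8, false)]),
    ([7, 3, 0, 1], [(0, 30, true), (5, 28, true), (4, 22, true), (3, 17, true), (2, 8, true), (1, 7, true), (0, 0, true), (0, 11, true), (2, 21, true), (3, 19, true), (2, 15, true), (1, 12, true), (4, 26, true), (3, 21, true), (5, 27, true), (4, 5, true), (4, 6, true), (4, 20, true), (3, 16, true), (2, 3, true), (2, 26, true), (3, 6, true), (3, 21, true), (2, 4, true), (2, 5, true), (2, 27, true), (3, 6, true), (3, 23, true), (2, 18, true), (1, 9, true), (0, 1, true), (1, 27, true), (2, 6, true), (1, 21, true), (2, 5, true), (1, 6, false), (1, 3, false), (2, 25, false), (2, 5, false), (3, 6, false), (0, 12, false), (1, 24, false), (1, 5, false), (0, 1, false),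 (1, 11, false), (2, 18, false), (3, 23, false), (2, 5, false), (2, 4, false), (3, 21, false), (2, 21, false), (0, 11, false), (0, 0, false), (1, 7, false), (2, 13, false), (3, 17, false), (9, 32, false), (4, 30, false), (0, 28, false), (2, 11, false), (1, 10, false)]),
    ([7, 3, 2], [(0, 30, true), (5, 29, true), (4, 24, true), (3, 19, true), (2, 2, true), (3, 27, true), (2, 5, true), (2, 6, true), (2, 6, false), (2, 4, false), (3, 26, false), (3, 6, false), (2, 26, false), (2, 3, false), (3, 16, false), (4, 25, false), (4, 5, false), (4, 6, false), (4, 5, false), (5, 27, false), (3, 21, false), (4, 26, false), (2, 2, false), (3, 12, false), (4, 15, false), (5, 19, false), (6, 6, false), (4, 21, false), (5, 26, false), (4, 27, false), (3, 25, false), (1, 9, false), (2, 11, false), (3, 14, false), (4, 23, false), (4, 6, false), (4, 5, false), (5, 27, false), (0, 8, false), (1, 17, false), (2, 22, false), (10, 33, false), (8, 32, false), (3, 30, false), (0, 29, false), (1, 12, false)]),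
    ([7, 3, 3], [(0, 30, true), (5, 30, true), (4, 22, true), (3, 17, true), (2, 8, true), (1, 7, true), (0, 0, true), (0, 11, true), (2, 21, true), (3, 19, true), (2, 15, true), (1, 12, true), (4, 26, true), (3, 21, true), (5, 27, true), (4, 5, true), (4, 6, true), (4, 20, true), (3, 16, true), (2, 3, true), (2, 26, true), (3, 6, true), (3, 21, true), (2, 4, true), (2, 5, true), (2, 27, true), (3, 6, true), (3, 23, true), (2, 18, true), (1, 9, true), (0, 1, true), (1, 27, true), (2, 6, true), (1, 19, true), (0, 2, true), (0, 5, true), (0, 33, false), (1, 3, false)]),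
    ([7, 5, 0, 1], [(0, 32, true), (2, 28, true), (1, 13, true), (0, 10, true), (3, 18, true), (2, 14, true), (1, 11, true), (3, 21, true), (4, 5, true), (3, 4, true), (4, 6, false), (3, 4, false), (4, 21, false), (5, 26, false), (4, 27, false), (2, 16, false), (3, 20, false), (6, 33, false), (4, 32, false), (0, 28, false), (2, 18, false), (3, 23, false), (1, 17, false)]),
    ([8, 2, 1], [(0, 35, true), (3, 34, true), (2, 23, true), (1, 14, true), (0, 11, true), (2, 21, true), (3, 27, false), (4, 39, false), (1, 35, false), (0, 34, false), (1, 9, false)]),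
    ([8, 2, 2], [(0, 35, true), (3, 35, true), (2, 25, true), (1, 16, true), (0, 3, true), (0, 26, true), (1, 6, true), (1, 26, true), (0, 4, true), (0, 6, true), (1, 2, false)]),
    ([8, 3, 3], [(0, 36, true), (4, 36, true), (3, 23, true), (2, 14, true), (1, 9, true), (0, 1, true), (1, 26, true), (2, 6, true), (1, 15, true), (0, 2, true), (2, 26, true), (1, 21, true), (0, 4, true), (1, 6, true), (0, 39, false), (1, 3, false)]),
    ([9, 6, 4], [(0, 42, true), (3, 41, true), (2, 15, false), (1, 14, false), (2, 6, false), (2, 5, false), (0, 13, false), (1, 17, false), (2, 22, false), (3, 42, false), (0, 41, false), (1, 26, false)]),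
    ([9, 6, 6], [(0, 42, true), (3, 42, true), (2, 8, true), (1, 7, true), (0, 0, true), (0, 11, true), (2, 21, true), (3, 19, true), (2, 15, true), (1, 12, true), (4, 26, true), (3, 21, true), (5, 27, true), (4, 5, true), (4, 6, true), (4, 20, true), (3, 16, true), (2, 3, true), (2, 26, true), (3, 6, true), (3, 21, true), (2, 4, true), (2, 5, true), (2, 23, true), (1, 9, true), (0, 1, true), (1, 6, true), (0, 2, true), (1, 6, false)])]
  combos := [
    [(1, 1), (2, 1), (7, 1), (8, 1), (12, 1), (16, 1), (18, 1), (23, 1), (24, 1), (25, 1), (26, 1)],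
    [(5, 1), (8, 1), (9, 1), (10, 1), (11, 1), (13, 1), (15, 1), (19, 1), (20, 1), (22, 1), (24, 1)],
    [(1, 1), (4, 1), (5, 1), (9, 1), (10, 1), (12, 1), (14, 1), (16, 1), (18, 1), (26, 1)],
    [(5, 1), (9, 1), (10, 1), (11, 1), (18, 1)],
    [(5, 1), (7, 1), (9, 1), (11, 1), (12, 1), (15, 1)],
    [(2, 1), (3, 1), (5, 1), (7, 1), (8, 1), (11, 1), (13, 1), (14, 1), (15, 1), (16, 1), (18, 1), (21, 1), (22, 1), (23, 1), (25, 1)],
    [(0, 1)],
    [(2, 1), (4, 1), (5, 1), (6, 1), (9, 1), (12, 1), (13, 1), (15, 1)],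
    [(4, 1), (11, 1), (12, 1), (14, 1), (16, 1), (26, 1)],
    [(1, 1), (2, 1), (4, 1), (5, 1), (9, 1), (10, 1), (12, 1), (14, 1), (16, 1), (18, 1), (26, 1)],
    [(0, 1), (1, 1), (3, 1), (5, 1), (6, 1), (8, 1), (9, 1), (11, 1), (12, 1), (13, 1), (15, 1), (19, 1), (20, 1), (22, 1)],
    [(1, 1), (4, 1), (8, 1), (11, 1), (12, 1), (13, 1), (14, 1), (16, 1), (18, 1), (19, 1), (20, 1), (22, 1), (26, 1)],
    [(1, 1), (4, 1), (5, 1), (8, 1), (9, 1), (10, 1), (12, 1), (13, 1), (14, 1), (19, 1), (20, 1), (22, 1), (26, 1)],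
    [(5, 1), (10, 1), (11, 1), (18, 1)],
    [(0, 1), (1, 1), (2, 1), (3, 1), (4, 1), (6, 1), (8, 1), (10, 1), (11, 1), (14, 1), (18, 1)],
    [(0, 1), (1, 1), (2, 1), (3, 1), (4, 1), (6, 1), (8, 1), (10, 1), (11, 1), (12, 1), (15, 1), (18, 1)],
    [(0, 1), (1, 1), (2, 1), (3, 1), (4, 1), (5, 1), (6, 1), (9, 1), (10, 1), (14, 1), (15, 1), (16, 1), (18, 1)],
    [(13, 1)],
    [(7, 1), (9, 1), (11, 1), (12, 1), (15, 1)],
    [(5, 1), (9, 1), (11, 1), (12, 1), (15, 1)],
    [(15, 1)],
    [(0, 1), (1, 1), (2, 1), (3, 1), (4, 1), (5, 1), (6, 1), (7, 1), (9, 1), (10, 1), (12, 1), (13, 1), (14, 1)],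
    [(0, 1), (1, 1), (2, 1), (3, 1), (4, 1), (5, 1), (6, 1), (7, 1), (8, 1), (9, 1), (12, 1), (14, 1)]]
  sorted := [24, 8, 53, 71, 10, 26, 87, 37, 104, 120, 103, 21, 122, 106, 5, 119, 60, 44, 59, 110, 41, 43, 126, 57, 76, 92, 9, 30, 27, 25, 14, 11, 31, 77, 80, 64, 15, 93, 114, 98, 113, 67, 20, 97, 4, 102, 83, 118, 42, 58, 69, 55, 56, 40, 39, 85, 99, 81, 100, 115, 116, 22, 65, 6, 109, 63, 32, 48, 125, 47, 2, 18, 111, 61, 66, 82, 127, 45, 96, 112, 78, 94, 75, 28, 89, 91, 12, 73, 62, 46, 121, 108, 107, 105, 124, 123, 19, 33, 54, 3, 38, 68, 49, 84, 90, 74, 23, 101, 72, 88, 117, 7, 1, 51, 70, 17, 86, 52, 35, 36, 29, 79, 50, 34, 13, 95, 16, 0]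

/-- The rule whose factor generates. -/
def genRule : ℕ := 8

/-- The combination isolating four times the generating factor. -/
def fourCombo : List (ℕ × ℕ) := [(0, 7), (1, 1), (2, 5), (3, 5), (4, 3), (5, 6), (6, 3), (7, 2), (8, 2), (9, 3), (10, 4), (11, 1), (13, 2), (14, 1), (15, 1), (16, 7), (17, 1), (18, 2), (19, 2), (20, 6), (22, 2), (23, 4), (25, 4), (26, 4), (27, 4)]

end H39.M22
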