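import Cfsg.Agent.H39.M22.Cert
import Cfsg.Agent.H39.M22.UpperData
import Cfsg.Agent.H97.SchurMathieu
import Cfsg.Agent.H39.L34.Upper

/-!
Stem extensions of M22 have cyclic kernels of exponent dividing twelve.
-/

set_option autoImplicit false
set_option maxRecDepth 100000

namespace H39.M22

open H97.SchurCert Subgroup
open scoped commutatorElement

set_option quotPrecheck false in
local notation "MG" => (↥Cfsg.Spor.M22)

theorem check_syms : (upData.syms.all fun p =>
    H87.mem22 p && H90.packAux (fun i => H90.img p i) 24 == p) = true := by decide +kernel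
theorem check_rules : rulesOK H90.compN H90.idN upData = true := by decide +kernel
theorem check_defs : defsOK upData = true := by decide +kernel
theorem check_pc : pcOK upData = true := by decide +kernel
theorem check_size : sizeOK H90.compN H90.idN upData = true := by decide +kernel
theorem check_targets : (List.range upData.targets.length).all (fun k =>
    upData.targets.getD k 0 == genRule || comboCheck upData 2 (upData.combos.getD k []) [genRule] (upData.targets.getD k 0) 1) = true := by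
  decide +kernel
theorem check_four : comboCheck upData 8 fourCombo [] genRule 4 = true := by decide +kernel

/-- Quotient of a stem extension. -/
theorem stem_quotient {Γ G : Type*} [Group Γ] [Group G] {σ : Γ →* G} (hσ : Cfsg.IsStemExtension σ)
    (N : Subgroup Γ) [N.Normal] (hN : N ≤ σ.ker) :
    Cfsg.IsStemExtension (QuotientGroup.lift N σ hN) := by
  refine ⟨fun g => ?_, ?_, ?_⟩
  · obtain ⟨x, rfl⟩ := hσ.1 g
    exact ⟨x, rfl⟩
  · intro q hq
    induction q using QuotientGroup.induction_on with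
    | _ x =>
      refine mem_center_iff.2 fun y => ?_
      induction y using QuotientGroup.induction_on with
      | _ y =>
        rw [← QuotientGroup.mk_mul, ← QuotientGroup.mk_mul, mem_center_iff.1 (hσ.2.1 hq) y]
  · intro q hq
    induction q using QuotientGroup.induction_on with
    | _ x =>
      have := mem_map_of_mem (QuotientGroup.mk' N) (hσ.2.2 hq)
      rw [_root_.commutator_def, map_commutator,
        map_top_of_surjective _ (QuotientGroup.mk'_surjective N)] at this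
      exact this

variable {Γ : Type*} [Group Γ] [Finite Γ]

/-- With kernel of exponent eight the kernel is cyclic of exponent four. -/
theorem exists_gen_of_exp_eight (σ : Γ →* MG) (hσ : Cfsg.IsStemExtension σ)
    (hexp : ∀ z ∈ σ.ker, z ^ 8 = 1) :
    ∃ g ∈ σ.ker, g ^ 4 = 1 ∧ ∀ z ∈ σ.ker, z ∈ zpowers g := by
  haveI hF2 : Fact (upData.p).Prime := ⟨Nat.prime_two⟩
  have hmem : ∀ v ∈ upData.syms, ∃ g : MG, (permCoding Cfsg.Spor.M22).code g = v := fun v hv => by
    refine exists_code_of_test H87.mem22 (fun q h => ?_) ?_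
    · obtain ⟨s, hs⟩ := H87.exists_of_mem22 h
      exact ⟨s.1, s.2, hs⟩
    · exact List.all_eq_true.1 check_syms v hv
  obtain ⟨val, L, hval, hL, hker, hdef⟩ :=
    exists_lifts (permCoding Cfsg.Spor.M22) upData hmem check_rules check_defs σ hσ.1
  set g := fac upData L genRule with hg
  have hg4 : g ^ 4 = 1 :=
    combo_pow_eq_one upData L σ hσ.2.1 (by norm_num) hker hexp hdef
      (free := []) (fun i hi => absurd hi List.not_mem_nil) check_four
  refine ⟨g, hker _, hg4, ?_⟩
  letI : CommGroup σ.ker :=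
    { (inferInstance : Group σ.ker) with
      mul_comm := fun a b => Subtype.ext (mem_center_iff.1 (hσ.2.1 b.2) a.1) }
  let g' : σ.ker := ⟨g, hker _⟩
  let K2 : Subgroup σ.ker := (powMonoidHom 2 : σ.ker →* σ.ker).range ⊔ zpowers g'
  let N : Subgroup Γ := K2.map σ.ker.subtype
  haveI hNn : N.Normal := ⟨fun x hx h => by
    obtain ⟨y, hy, rfl⟩ := hx
    rw [Subgroup.coe_subtype, mem_center_iff.1 (hσ.2.1 y.2) h, mul_inv_cancel_right]
    exact ⟨y, hy, rfl⟩⟩
  have hNle : N ≤ σ.ker := map_subtype_le _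
  let τ : Γ ⧸ N →* MG := QuotientGroup.lift N σ hNle
  have hτ := stem_quotient hσ N hNle
  have hexp2 : ∀ q ∈ τ.ker, q ^ 2 = 1 := by
    intro q hq
    induction q using QuotientGroup.induction_on with
    | _ x =>
      rw [← QuotientGroup.mk_pow, QuotientGroup.eq_one_iff]
      exact ⟨powMonoidHom 2 (⟨x, hq⟩ : σ.ker), mem_sup_left ⟨_, rfl⟩, rfl⟩
  let L' : ℕ → Γ ⧸ N := fun i => (L i : Γ ⧸ N)
  have hfac : ∀ r, fac upData L' r = ((fac upData L r : Γ) : Γ ⧸ N) := fun r =>
    (map_fac (QuotientGroup.mk' N) upData L r).symm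
  have hker' : ∀ r, fac upData L' r ∈ τ.ker := fun r => by
    rw [hfac, MonoidHom.mem_ker, QuotientGroup.lift_mk]
    exact hker r
  have hdef' : ∀ d ∈ upData.defs, fac upData L' d.1 = 1 := fun d hd => by
    rw [hfac, hdef d hd]; rfl
  have hgen' : fac upData L' genRule = 1 := by
    rw [hfac, QuotientGroup.eq_one_iff]
    exact ⟨g', mem_sup_right (mem_zpowers _), rfl⟩
  have hzero : ∀ r, isZero upData r = true → fac upData L' r = 1 := by
    intro r hr
    simp only [isZero, Bool.or_eq_true, List.any_eq_true, beq_iff_eq, List.contains_iff_mem] at hr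
    rcases hr with ⟨d, hd, rfl⟩ | hr
    · exact hdef' d hd
    obtain ⟨k, hk, rfl⟩ := List.getElem_of_mem hr
    have hchk := List.all_eq_true.1 check_targets k (List.mem_range.2 hk)
    rw [List.getD_eq_getElem _ _ hk, Bool.or_eq_true, beq_iff_eq] at hchk
    rcases hchk with hchk | hchk
    · rw [hchk]; exact hgen'
    have := combo_pow_eq_one upData L' τ hτ.2.1 two_pos hker' hexp2 hdef'
      (fun i hi => by rw [List.mem_singleton.1 hi]; exact hgen') hchk
    simpa using this
  have hbot := ker_eq_bot_of_zero (permCoding Cfsg.Spor.M22) upData check_pc check_size (M := 3465)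
    (by rw [H87.natCard_M22]; rfl) (by decide) τ hτ hexp2 val L' hval hL hzero
  have hK : ∀ x : σ.ker, x ∈ K2 := fun x => by
    have : ((x : Γ) : Γ ⧸ N) ∈ τ.ker := x.2
    rw [hbot, mem_bot, QuotientGroup.eq_one_iff] at this
    obtain ⟨y, hy, e⟩ := this
    exact Subtype.ext e ▸ hy
  have hstep : ∀ n : ℕ, ∀ x : σ.ker, ∃ (y : σ.ker) (a : ℤ), x = y ^ 2 ^ n * g' ^ a := by
    intro n
    induction n with
    | zero => intro x; exact ⟨x, 0, by simp⟩
    | succ n ih =>
      intro x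
      obtain ⟨y, a, rfl⟩ := ih x
      obtain ⟨u, ⟨w, rfl⟩, v, hv, e⟩ := mem_sup.1 (hK y)
      obtain ⟨b, rfl⟩ := mem_zpowers_iff.1 hv
      refine ⟨w, b * 2 ^ n + a, ?_⟩
      rw [← e, powMonoidHom_apply, mul_pow, ← pow_mul, ← pow_succ', mul_assoc, zpow_add, zpow_mul,
        show ((2 : ℤ) ^ n) = ((2 ^ n : ℕ) : ℤ) by push_cast; rfl, zpow_natCast]
  intro z hz
  obtain ⟨y, a, e⟩ := hstep 3 ⟨z, hz⟩
  refine mem_zpowers_iff.2 ⟨a, ?_⟩
  have e' := congrArg Subtype.val e
  simp only [Subgroup.coe_mul, SubmonoidClass.coe_pow, Subgroup.coe_zpow, g'] at e'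
  rw [show 2 ^ 3 = 8 from rfl, hexp _ y.2, one_mul] at e'
  exact e'.symm

/-- The commutators of a Sylow three-subgroup upstairs are powers of one element of order three. -/
theorem exists_comm_gen {G : Type*} [Group G] (π : Γ →* G) (hc : π.ker ≤ center Γ)
    (P : Sylow 3 Γ) (Q : Subgroup G) (hQ : Nat.card Q = 3 ^ 2) (hPQ : (P : Subgroup Γ).map π = Q) :
    ∃ c : Γ, c ^ 3 = 1 ∧ ∀ x y : P, ⁅(x : Γ), (y : Γ)⁆ ∈ zpowers c := by
  haveI : Fact (Nat.Prime 3) := ⟨Nat.prime_three⟩
  haveI : Finite Q := Nat.finite_of_card_ne_zero (by rw [hQ]; norm_num)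
  haveI hQcomm := IsPGroup.isMulCommutative_of_card_eq_prime_sq hQ
  have hPQ' : ∀ x : P, π x ∈ Q := fun x => hPQ ▸ mem_map_of_mem π x.2
  have hcom : ∀ x y : P, π x * π y = π y * π x := fun x y =>
    congrArg Subtype.val (hQcomm.is_comm.comm (⟨π x, hPQ' x⟩ : Q) ⟨π y, hPQ' y⟩)
  let φ : P →* Q := (π.comp (P : Subgroup Γ).subtype).codRestrict _ hPQ'
  have hφ : Function.Surjective φ := by
    rintro ⟨s, hs'⟩
    rw [← hPQ] at hs'
    obtain ⟨x, hx, rfl⟩ := hs'
    exact ⟨⟨x, hx⟩, rfl⟩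
  have hφc : ∀ x : P, φ x = 1 → ∀ y : P, (x : Γ) * y = y * x := fun x hx y =>
    (mem_center_iff.1 (hc (congrArg Subtype.val hx)) y).symm
  by_cases hcy : IsCyclic Q
  · obtain ⟨q, hq⟩ := hcy.exists_generator
    obtain ⟨a, rfl⟩ := hφ q
    refine ⟨1, one_pow 3, fun x y => ?_⟩
    have key : ∀ u : P, ∃ n : ℤ, π (((a : Γ) ^ n)⁻¹ * u) = 1 := fun u => by
      obtain ⟨n, hn⟩ := mem_zpowers_iff.1 (hq (φ u))
      refine ⟨n, ?_⟩
      have hn' : π ((a : Γ) ^ n) = π u := by
        rw [← Subgroup.coe_zpow]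
        exact congrArg Subtype.val ((map_zpow φ a n).trans hn)
      rw [map_mul, map_inv, hn', inv_mul_cancel]
    obtain ⟨n, hn⟩ := key x
    obtain ⟨m, hm⟩ := key y
    have hxy := (((Commute.refl (a : Γ)).zpow_zpow n m).mul_right
      (mem_center_iff.1 (hc hm) _)).mul_left (mem_center_iff.1 (hc hn) _).symm
    rw [mul_inv_cancel_left, mul_inv_cancel_left] at hxy
    rw [commutatorElement_eq_one_iff_mul_comm.2 hxy.eq]
    exact one_mem _
  have hexp : ∀ x : P, π ((x : Γ) ^ 3) = 1 := by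
    intro x
    rw [map_pow]
    have hdvd : orderOf (φ x) ∣ 3 ^ 2 := hQ ▸ orderOf_dvd_natCard _
    obtain ⟨i, hi, hi'⟩ := (Nat.dvd_prime_pow Nat.prime_three).1 hdvd
    have : φ x ^ 3 = 1 := by
      refine orderOf_dvd_iff_pow_eq_one.1 ?_
      rw [hi']
      rcases (show i ≤ 1 ∨ i = 2 by omega) with h | rfl
      · exact (pow_dvd_pow 3 h).trans (by norm_num)
      · exact absurd (isCyclic_of_orderOf_eq_card (φ x) (by rw [hi', hQ])) hcy
    exact congrArg Subtype.val this
  -- two generators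
  haveI : Nontrivial Q := Finite.one_lt_card_iff_nontrivial.1 (by rw [hQ]; norm_num)
  obtain ⟨qa, hqa⟩ := exists_ne (1 : Q)
  obtain ⟨a, rfl⟩ := hφ qa
  obtain ⟨qb, hqb⟩ : ∃ q : Q, q ∉ zpowers (φ a) := by
    by_contra h
    push Not at h
    exact hcy ⟨⟨φ a, h⟩⟩
  obtain ⟨b, rfl⟩ := hφ qb
  have htop : zpowers (φ a) ⊔ zpowers (φ b) = ⊤ := by
    have h1 : 3 ≤ Nat.card (zpowers (φ a)) := by
      rw [Nat.card_zpowers]
      obtain ⟨i, hi, hi'⟩ := (Nat.dvd_prime_pow Nat.prime_three).1 (hQ ▸ orderOf_dvd_natCard (φ a))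
      rcases Nat.eq_zero_or_pos i with rfl | hi0
      · exact absurd (orderOf_eq_one_iff.1 (by simpa using hi')) hqa
      · rw [hi']; exact Nat.le_self_pow (by omega) 3
    have h2 : zpowers (φ a) < zpowers (φ a) ⊔ zpowers (φ b) :=
      lt_of_le_of_ne le_sup_left fun h => hqb (h ▸ mem_sup_right (mem_zpowers _))
    set U := zpowers (φ a) ⊔ zpowers (φ b)
    obtain ⟨j, hj, hj'⟩ := (Nat.dvd_prime_pow Nat.prime_three).1 (hQ ▸ U.card_subgroup_dvd_card)
    have h3 : Nat.card (zpowers (φ a)) < Nat.card U := by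
      refine lt_of_le_of_ne (Subgroup.card_le_of_le h2.le) fun h => h2.ne ?_
      exact eq_of_le_of_card_ge h2.le h.ge
    refine (Subgroup.card_eq_iff_eq_top U).1 ?_
    rw [hj', hQ]
    congr 1
    by_contra hne
    have := Nat.pow_le_pow_right (show 0 < 3 by norm_num) (show j ≤ 1 by omega)
    omega
  set c := ⁅(a : Γ), (b : Γ)⁆ with hcdef
  have hck : ∀ x y : P, ⁅(x : Γ), (y : Γ)⁆ ∈ π.ker := fun x y => by
    rw [MonoidHom.mem_ker, map_commutatorElement, commutatorElement_eq_one_iff_mul_comm, hcom]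
  refine ⟨c, ?_, ?_⟩
  · rw [hcdef, H39.L34.comm_pow_of_pow_central hc (hcom a b), commutatorElement_eq_one_iff_mul_comm]
    exact (mem_center_iff.1 (hc (hexp a)) _).symm
  -- the elements commuting with everything modulo `c` form a subgroup
  have hgen : ∀ (w : P), (∀ u : P, u = a ∨ u = b → ⁅(u : Γ), (w : Γ)⁆ ∈ zpowers c) →
      ∀ x : P, ⁅(x : Γ), (w : Γ)⁆ ∈ zpowers c := by
    intro w hw
    let U : Subgroup P :=
      { carrier := {u | ⁅(u : Γ), (w : Γ)⁆ ∈ zpowers c}
        one_mem' := by simp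
        mul_mem' := fun {u v} hu hv => by
          show ⁅(u : Γ) * v, (w : Γ)⁆ ∈ zpowers c
          rw [commutatorElement_mul_left_eq_conj_mul, mem_center_iff.1 (hc (hck v w)) u,
            mul_inv_cancel_right]
          exact mul_mem hv hu
        inv_mem' := fun {u} hu => by
          show ⁅((u : Γ))⁻¹, (w : Γ)⁆ ∈ zpowers c
          have h := commutatorElement_mul_left_eq_conj_mul ((u : Γ))⁻¹ (u : Γ) (w : Γ)
          rw [inv_mul_cancel, commutatorElement_one_left, mem_center_iff.1 (hc (hck u w)),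
            mul_inv_cancel_right] at h
          rw [eq_inv_of_mul_eq_one_right h.symm]
          exact inv_mem hu }
    intro x
    have hx : φ x ∈ U.map φ := by
      have : (⊤ : Subgroup Q) ≤ U.map φ := by
        rw [← htop, sup_le_iff, zpowers_le, zpowers_le]
        exact ⟨⟨a, hw a (Or.inl rfl), rfl⟩, ⟨b, hw b (Or.inr rfl), rfl⟩⟩
      exact this (mem_top _)
    obtain ⟨u, hu, hux⟩ := hx
    have hz : φ (u⁻¹ * x) = 1 := by rw [map_mul, map_inv, hux, inv_mul_cancel]
    have hz1 : u⁻¹ * x ∈ U := by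
      show ⁅((u⁻¹ * x : P) : Γ), (w : Γ)⁆ ∈ zpowers c
      rw [commutatorElement_eq_one_iff_mul_comm.2 (hφc _ hz w)]
      exact one_mem _
    have : u * (u⁻¹ * x) ∈ U := mul_mem hu hz1
    rwa [mul_inv_cancel_left] at this
  intro x y
  refine hgen y (fun u hu => ?_) x
  rw [← inv_mem_iff, commutatorElement_inv]
  refine hgen u (fun v hv => ?_) y
  rcases hu with rfl | rfl <;> rcases hv with rfl | rfl
  · simp
  · rw [← inv_mem_iff, commutatorElement_inv]; exact mem_zpowers c
  · exact mem_zpowers c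
  · simp

/-- The kernel of a stem extension of M22 is cyclic, its order divides twelve. -/
theorem ker_cyclic (σ : Γ →* MG) (hσ : Cfsg.IsStemExtension σ) :
    IsCyclic σ.ker ∧ Nat.card σ.ker ∣ 12 := by
  classical
  letI : CommGroup σ.ker :=
    { (inferInstance : Group σ.ker) with
      mul_comm := fun a b => Subtype.ext (mem_center_iff.1 (hσ.2.1 b.2) a.1) }
  -- no primes beyond three
  set K := Nat.card σ.ker with hK
  have hprimes : ∀ p, p.Prime → p ∣ K → p = 2 ∨ p = 3 := by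
    intro p hp hd
    haveI := Fact.mk hp
    have hsq := sq_dvd_of_dvd_card_ker σ hσ hd
    rw [H87.natCard_M22] at hsq
    have hmem : p ∈ Nat.primeFactorsList 443520 :=
      (Nat.mem_primeFactorsList (by norm_num)).2 ⟨hp, (dvd_pow_self p two_ne_zero).trans hsq⟩
    simp only [Nat.primeFactorsList_ofNat, List.mem_cons, List.not_mem_nil, or_false] at hmem
    by_contra hcon
    obtain ⟨h2, h3⟩ := not_or.1 hcon
    simp only [h2, h3, false_or] at hmem
    rcases hmem with rfl | rfl | rfl <;> norm_num at hsq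
  set A := 2 ^ K.factorization 2 with hA
  set B := 3 ^ K.factorization 3 with hB
  have hKAB : K = A * B := by
    have hK0 : K ≠ 0 := Nat.card_pos.ne'
    refine Nat.eq_of_factorization_eq hK0 (by positivity) fun q => ?_
    rw [hA, hB, Nat.factorization_mul (by positivity) (by positivity), Finsupp.add_apply,
      Nat.prime_two.factorization_pow, Nat.prime_three.factorization_pow, Finsupp.single_apply,
      Finsupp.single_apply]
    by_cases h : q.Prime ∧ q ∣ K
    · rcases hprimes q h.1 h.2 with rfl | rfl <;> simp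
    · have h0 : K.factorization q = 0 := by
        rcases not_and_or.1 h with h | h
        · exact Nat.factorization_eq_zero_of_not_prime _ h
        · exact Nat.factorization_eq_zero_of_not_dvd h
      rw [h0]
      split_ifs with h2 h3 h3 <;> subst_vars <;> simp_all
  -- the part over three
  haveI : Fact (Nat.Prime 3) := ⟨Nat.prime_three⟩
  obtain ⟨P⟩ := (inferInstance : Nonempty (Sylow 3 Γ))
  have hQ : Nat.card (P.mapSurjective hσ.1 : Subgroup MG) = 3 ^ 2 := by
    rw [(P.mapSurjective hσ.1).card_eq_multiplicity, H87.natCard_M22,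
      show (443520 : ℕ) = 3 ^ 2 * 49280 by norm_num,
      Nat.factorization_mul (by norm_num) (by norm_num), Finsupp.add_apply,
      Nat.prime_three.factorization_pow, Finsupp.single_eq_same,
      Nat.factorization_eq_zero_of_not_dvd (by norm_num : ¬ 3 ∣ 49280)]
  obtain ⟨c, hc3, hcc⟩ := exists_comm_gen σ hσ.2.1 P _ hQ rfl
  have hthree : ∀ z : σ.ker, z ^ B = 1 → (z : Γ) ∈ zpowers c := by
    intro z hz
    have hz' : (z : Γ) ^ 3 ^ K.factorization 3 = 1 := congrArg Subtype.val hz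
    have hP := H39.L34.mem_of_central_pgroup P (hσ.2.1 z.2) hz'
    have h := H97.mem_commutator_sylow P (hσ.2.1 z.2) (hσ.2.2 z.2) hP
    have : (z : Γ) ∈ ⁅(P : Subgroup Γ), (P : Subgroup Γ)⁆ := by
      rw [← Subgroup.map_subtype_commutator]; exact ⟨_, h, rfl⟩
    exact commutator_le.2 (fun x hx y hy => hcc ⟨x, hx⟩ ⟨y, hy⟩) this
  -- the part over two
  let e8 : σ.ker →* σ.ker := powMonoidHom 8
  let N : Subgroup Γ := e8.range.map σ.ker.subtype
  haveI hNn : N.Normal := ⟨fun x hx h => by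
    obtain ⟨y, hy, rfl⟩ := hx
    rw [Subgroup.coe_subtype, mem_center_iff.1 (hσ.2.1 y.2) h, mul_inv_cancel_right]
    exact ⟨y, hy, rfl⟩⟩
  have hNle : N ≤ σ.ker := map_subtype_le _
  obtain ⟨gq, hgq, hgq4, hgen⟩ := exists_gen_of_exp_eight (QuotientGroup.lift N σ hNle)
    (stem_quotient hσ N hNle) (fun q hq => by
      induction q using QuotientGroup.induction_on with
      | _ x =>
        rw [← QuotientGroup.mk_pow, QuotientGroup.eq_one_iff]
        exact ⟨e8 ⟨x, hq⟩, ⟨_, rfl⟩, rfl⟩)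
  obtain ⟨g, rfl⟩ : ∃ g : Γ, (g : Γ ⧸ N) = gq := Quotient.exists_rep gq
  let g' : σ.ker := ⟨g, hgq⟩
  have lift8 : ∀ (x : σ.ker) (a : ℤ), ((x : Γ) : Γ ⧸ N) = (g : Γ ⧸ N) ^ a →
      ∃ y : σ.ker, x = g' ^ a * y ^ 8 := by
    intro x a h
    rw [← QuotientGroup.mk_zpow, eq_comm, QuotientGroup.eq] at h
    obtain ⟨w, ⟨y, rfl⟩, e⟩ := h
    refine ⟨y, Subtype.ext ?_⟩
    simp only [Subgroup.coe_mul, Subgroup.coe_zpow, SubmonoidClass.coe_pow, g']
    simp only [Subgroup.coe_subtype, e8, powMonoidHom_apply, SubmonoidClass.coe_pow] at e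
    rw [e, mul_inv_cancel_left]
  have hKpow : ∀ x : σ.ker, x ^ (A * B) = 1 := fun x => by rw [← hKAB]; exact pow_card_eq_one'
  -- powers eight can be iterated, leaving only the part over three
  have hiter : ∀ n : ℕ, ∀ x : σ.ker, ∃ y : σ.ker, x ^ 4 = y ^ (4 * 2 ^ n) := by
    intro n
    induction n with
    | zero => intro x; exact ⟨x, by norm_num⟩
    | succ n ih =>
      intro x
      obtain ⟨y, hy⟩ := ih x
      obtain ⟨a, ha⟩ := mem_zpowers_iff.1 (hgen _ (show ((y : Γ) : Γ ⧸ N) ∈ _ from y.2))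
      obtain ⟨u, hu⟩ := lift8 y a ha.symm
      obtain ⟨v, hv⟩ := lift8 (g' ^ 4) 0 (by
        rw [zpow_zero, SubmonoidClass.coe_pow, QuotientGroup.mk_pow]; exact hgq4)
      rw [zpow_zero, one_mul] at hv
      refine ⟨v ^ a * u ^ 4, ?_⟩
      have e1 : (g' ^ a) ^ 4 = (v ^ a) ^ 8 := by
        rw [← zpow_natCast (g' ^ a) 4, ← zpow_mul, mul_comm a, zpow_mul, zpow_natCast, hv,
          ← zpow_natCast (v ^ a) 8, ← zpow_mul, mul_comm a, zpow_mul, zpow_natCast]
      calc x ^ 4 = (g' ^ a * u ^ 8) ^ (4 * 2 ^ n) := by rw [hy, hu]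
        _ = ((v ^ a) ^ 8 * (u ^ 4) ^ 8) ^ 2 ^ n := by
          rw [pow_mul (g' ^ a * u ^ 8), mul_pow, e1, ← pow_mul u 8 4, ← pow_mul u 4 8]
        _ = (v ^ a * u ^ 4) ^ (4 * 2 ^ (n + 1)) := by
          rw [← mul_pow, ← pow_mul]
          congr 1
          rw [pow_succ]; ring
  have hfour : ∀ x : σ.ker, (x ^ 4) ^ B = 1 := by
    intro x
    obtain ⟨y, hy⟩ := hiter (K.factorization 2) x
    rw [hy, ← pow_mul, show 4 * 2 ^ K.factorization 2 * B = A * B * 4 by rw [hA]; ring, pow_mul,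
      hKpow, one_pow]
  have hc12 : ∀ x : σ.ker, (x ^ 4) ^ 3 = 1 := fun x => by
    obtain ⟨k, hk⟩ := mem_zpowers_iff.1 (hthree _ (hfour x))
    refine Subtype.ext ?_
    rw [SubmonoidClass.coe_pow, ← hk, ← zpow_natCast, zpow_comm, zpow_natCast, hc3, one_zpow]
    rfl
  have h12 : ∀ x : σ.ker, x ^ 12 = 1 := fun x => by rw [← hc12 x, ← pow_mul]
  have h13 : ∀ x : σ.ker, x = x ^ 9 * x ^ 4 := fun x => by
    rw [← pow_add, pow_succ, h12, one_mul]
  obtain ⟨cK, hcK3, hcK⟩ : ∃ cK : σ.ker, cK ^ 3 = 1 ∧ ∀ z : σ.ker, z ^ B = 1 → z ∈ zpowers cK := by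
    by_cases h : c ∈ σ.ker
    · refine ⟨⟨c, h⟩, Subtype.ext hc3, fun z hz => ?_⟩
      obtain ⟨k, hk⟩ := mem_zpowers_iff.1 (hthree z hz)
      exact mem_zpowers_iff.2 ⟨k, Subtype.ext hk⟩
    · refine ⟨1, one_pow 3, fun z hz => ?_⟩
      obtain ⟨k, hk⟩ := mem_zpowers_iff.1 (hthree z hz)
      suffices z = 1 by rw [this]; exact one_mem _
      by_contra hne
      refine h ?_
      have hco : IsCoprime k (3 : ℤ) := by
        rw [isCoprime_comm, Prime.coprime_iff_not_dvd Int.prime_three]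
        rintro ⟨j, rfl⟩
        refine hne (Subtype.ext ?_)
        rw [← hk, zpow_mul, show c ^ (3 : ℤ) = 1 by exact_mod_cast hc3, one_zpow]
        rfl
      obtain ⟨u, v, huv⟩ := hco
      have : c = (z : Γ) ^ u := by
        rw [← hk, ← zpow_mul]
        conv_lhs => rw [← zpow_one c, ← huv]
        rw [zpow_add, mul_comm v, zpow_mul c 3, show c ^ (3 : ℤ) = 1 by exact_mod_cast hc3, one_zpow,
          mul_one, mul_comm]
      rw [this]
      exact zpow_mem z.2 u
  let h : σ.ker := g' ^ 9 * cK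
  have hh4 : h ^ 4 = cK := by
    rw [mul_pow, ← pow_mul, show 9 * 4 = 12 * 3 by rfl, pow_mul, h12, one_pow, one_mul, pow_succ,
      hcK3, one_mul]
  have hh9 : h ^ 9 = g' ^ 9 := by
    rw [mul_pow, ← pow_mul, show 9 * 9 = 12 * 6 + 9 by rfl, pow_add, pow_mul, h12, one_pow, one_mul,
      show cK ^ 9 = 1 by rw [show 9 = 3 * 3 by rfl, pow_mul, hcK3, one_pow], mul_one]
  have hall : ∀ x : σ.ker, x ∈ zpowers h := by
    intro x
    rw [h13 x]
    refine mul_mem ?_ ?_
    · obtain ⟨a, ha⟩ := mem_zpowers_iff.1 (hgen _ (show ((x : Γ) : Γ ⧸ N) ∈ _ from x.2))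
      obtain ⟨y, hy⟩ := lift8 x a ha.symm
      have e : x ^ 9 = (g' ^ 9) ^ a := by
        rw [hy, mul_pow, ← pow_mul, show 8 * 9 = 12 * 6 by rfl, pow_mul, h12, one_pow, mul_one,
          ← zpow_natCast, zpow_comm, zpow_natCast]
      rw [e, ← hh9]
      exact zpow_mem (pow_mem (mem_zpowers h) 9) a
    · obtain ⟨a, ha⟩ := mem_zpowers_iff.1 (hcK _ (hfour x))
      rw [← ha, ← hh4]
      exact zpow_mem (pow_mem (mem_zpowers h) 4) a
  refine ⟨⟨⟨h, hall⟩⟩, ?_⟩
  rw [hK, ← orderOf_eq_card_of_forall_mem_zpowers hall]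
  exact orderOf_dvd_of_pow_eq_one (h12 h)

end H39.M22
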