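import Cfsg.Agent.H39.M22.Checks3
import Cfsg.Agent.H39.M22.Checks4
import Cfsg.Agent.H39.M22.ChainData
import Cfsg.Agent.H39.M22.Upper
import Cfsg.Agent.H97.MathieuOut
import Cfsg.Agent.H39.L34.Cover

/-!
A stem extension of M22 with cyclic kernel of order twelve.
-/

set_option autoImplicit false
set_option maxRecDepth 100000

namespace H39.M22

open Cfsg H90 H97.MOut
open scoped commutatorElement

abbrev P24 := Equiv.Perm GolayPt

/-- A node is valid. -/
def nodeCheck (i : ℕ) : Bool :=
  let x := chainNodes.getD i (idN, 0, 0)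
  if i = 0 then x.1 == idN else if i = 1 then x.1 == genA else if i = 2 then x.1 == genB
  else decide (x.2.1 < i) && decide (x.2.2 < i) &&
    compN (chainNodes.getD x.2.1 (idN, 0, 0)).1 (chainNodes.getD x.2.2 (idN, 0, 0)).1 == x.1

/-- The levels as values. -/
def chainVals : List (ℕ × List ℕ) :=
  chainLevels.map fun l => (l.1, l.2.map fun i => (chainNodes.getD i (idN, 0, 0)).1)

/-- Elements writing the generators as commutators. -/
def commWit : List (ℕ × ℕ) := [(959568865368760534072161947101008256, 974003236592447384099440568907185376), (973155842483787852800491329674676320, 971498701899049967493253088070935072)]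

theorem nodes_ok : (List.range chainNodes.length).all nodeCheck = true := by decide +kernel
theorem chain_ok : chainOK [] chainVals = true := by decide +kernel
theorem chain_size : chainSize chainVals = 443520 := by decide +kernel
theorem levels_ok : chainLevels.all (fun l => l.2.all fun i => decide (i < chainNodes.length)) = true := by
  decide +kernel
theorem gens_mem : ([genA, genB] ++ commWit.flatMap fun q => [q.1, q.2]).all (fun q =>
    H87.mem22 q && packAux (fun i => img q i) 24 == q) = true := by decide +kernel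
theorem comm_ok : ((commWit.zip [genA, genB]).all fun q =>
    compN q.1.1 q.1.2 == compN q.2 (compN q.1.2 q.1.1)) = true := by decide +kernel

theorem exists_gen {q : ℕ} (h : q ∈ [genA, genB] ++ commWit.flatMap fun q => [q.1, q.2]) :
    ∃ g : Spor.M22, code g.1 = q := by
  have := List.all_eq_true.1 gens_mem q h
  simp only [Bool.and_eq_true, beq_iff_eq] at this
  obtain ⟨σ, hσ⟩ := H87.exists_of_mem22 this.1
  exact ⟨σ, (code_of_repr hσ).trans this.2⟩

/-- The first generator. -/
noncomputable def gA : Spor.M22 := (exists_gen (q := genA) (by simp)).choose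

/-- The second generator. -/
noncomputable def gB : Spor.M22 := (exists_gen (q := genB) (by simp)).choose

theorem code_gA : code gA.1 = genA := (exists_gen (q := genA) (by simp)).choose_spec
theorem code_gB : code gB.1 = genB := (exists_gen (q := genB) (by simp)).choose_spec

theorem closure_gens : Subgroup.closure ({gA.1, gB.1} : Set P24) = Spor.M22 := by
  set H := Subgroup.closure ({gA.1, gB.1} : Set P24)
  have hle : H ≤ Spor.M22 := by
    rw [Subgroup.closure_le]
    simp [Set.insert_subset_iff]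
  have hnode : ∀ i < chainNodes.length, ∃ σ ∈ H, code σ = (chainNodes.getD i (idN, 0, 0)).1 := by
    intro i
    induction i using Nat.strong_induction_on with
    | _ i ih =>
    intro hi
    have h := List.all_eq_true.1 nodes_ok i (List.mem_range.2 hi)
    simp only [nodeCheck] at h
    split_ifs at h with h0 h1 h2
    · exact ⟨1, one_mem _, by rw [code_one]; exact (beq_iff_eq.1 h).symm⟩
    · exact ⟨_, Subgroup.subset_closure (Or.inl rfl), code_gA.trans (beq_iff_eq.1 h).symm⟩
    · exact ⟨_, Subgroup.subset_closure (Or.inr rfl), code_gB.trans (beq_iff_eq.1 h).symm⟩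
    · simp only [Bool.and_eq_true, decide_eq_true_eq, beq_iff_eq] at h
      obtain ⟨σ, hσ, eσ⟩ := ih _ h.1.1 (by omega)
      obtain ⟨τ, hτ, eτ⟩ := ih _ h.1.2 (by omega)
      exact ⟨σ * τ, mul_mem hσ hτ, by rw [code_mul, eσ, eτ, h.2]⟩
  refine (chain_exhausts hle H87.natCard_M22 chain_ok chain_size fun l hl u hu => ?_).1
  simp only [chainVals, List.mem_map] at hl
  obtain ⟨l', hl', rfl⟩ := hl
  obtain ⟨i, hi, rfl⟩ := List.mem_map.1 hu
  exact hnode i (of_decide_eq_true (List.all_eq_true.1 (List.all_eq_true.1 levels_ok l' hl') i hi))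

theorem M22_perfect : commutator Spor.M22 = ⊤ := by
  have key : ∀ q ∈ commWit.zip [genA, genB], ∀ g : Spor.M22, code g.1 = q.2 →
      g ∈ commutator Spor.M22 := by
    intro q hq g hg
    have hc := List.all_eq_true.1 comm_ok q hq
    rw [beq_iff_eq] at hc
    have hq1 : q.1 ∈ commWit := (List.of_mem_zip hq).1
    obtain ⟨u, hu⟩ := exists_gen (q := q.1.1)
      (List.mem_append_right _ (List.mem_flatMap.2 ⟨q.1, hq1, by simp⟩))
    obtain ⟨v, hv⟩ := exists_gen (q := q.1.2)
      (List.mem_append_right _ (List.mem_flatMap.2 ⟨q.1, hq1, by simp⟩))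
    have e : u * v = g * (v * u) := Subtype.ext (code_inj (by
      simp only [Subgroup.coe_mul, code_mul, hu, hv, hg, hc]))
    have : g = ⁅u, v⁆ := by
      rw [commutatorElement_def, e]
      group
    rw [this, _root_.commutator_def]
    exact Subgroup.commutator_mem_commutator (Subgroup.mem_top _) (Subgroup.mem_top _)
  rw [eq_top_iff]
  intro g _
  have hg : g.1 ∈ Subgroup.closure ({gA.1, gB.1} : Set P24) := by rw [closure_gens]; exact g.2
  have hle : Subgroup.closure ({gA.1, gB.1} : Set P24) ≤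
      (commutator Spor.M22).map (Spor.M22).subtype := by
    rw [Subgroup.closure_le]
    rintro x (rfl | rfl)
    · exact ⟨gA, key (commWit.headD (0, 0), genA) (by simp [commWit]) gA code_gA, rfl⟩
    · exact ⟨gB, key ((commWit.tail).headD (0, 0), genB) (by simp [commWit]) gB code_gB, rfl⟩
  obtain ⟨y, hy, e⟩ := hle hg
  rwa [← Subtype.ext e]

/-! ### The labels -/

/-- Labels that are pairs of points. -/
def relMask (L : List ℕ) (σ : P24) (b b' : ℕ) : Prop :=
  ∀ x, (L.getD b' 0).testBit (idx (σ x)).val = (L.getD b 0).testBit (idx x).val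

/-- Labels that are permutations, acted on by conjugation. -/
def relConj (L : List ℕ) (σ : P24) (b b' : ℕ) : Prop :=
  ∀ x : GolayPt, img (L.getD b' 0) (idx (σ x)).val = img (code σ) (img (L.getD b 0) (idx x).val)

theorem mask_ok : (List.range 2).all (fun g => (List.range Rep3.data.blocks.length).all fun b =>
    (List.range 24).all fun i =>
      (Rep3.labels.getD (Rep3.data.act g b).1 0).testBit (img ([genA, genB].getD g 0) i) ==
        (Rep3.labels.getD b 0).testBit i) = true := by decide +kernel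

theorem mask_inj : (Rep3.labels.length == Rep3.data.blocks.length &&
    Rep3.labels.all (fun m => decide (m < 2 ^ 24)) && H97.SchurCert.increasing Rep3.labels) = true := by
  decide +kernel

theorem conj_ok : (List.range 2).all (fun g => (List.range Rep4.data.blocks.length).all fun b =>
    (List.range 24).all fun i =>
      img (Rep4.labels.getD (Rep4.data.act g b).1 0) (img ([genA, genB].getD g 0) i) ==
        img ([genA, genB].getD g 0) (img (Rep4.labels.getD b 0) i)) = true := by decide +kernel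

theorem conj_inj : (Rep4.labels.length == Rep4.data.blocks.length &&
    Rep4.labels.all (fun m => packAux (fun i => img m i) 24 == m &&
      (List.range 24).all fun i => decide (img m i < 24)) &&
    H97.SchurCert.increasing Rep4.labels) = true := by decide +kernel

theorem getD_mem {L : List ℕ} {b : ℕ} (hb : b < L.length) : L.getD b 0 ∈ L := by
  rw [List.getD_eq_getElem _ _ hb]; exact List.getElem_mem hb

theorem eq_of_getD {L : List ℕ} (hL : H97.SchurCert.increasing L = true) {b b' : ℕ} (hb : b < L.length)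
    (hb' : b' < L.length) (h : L.getD b 0 = L.getD b' 0) : b = b' := by
  rw [List.getD_eq_getElem _ _ hb, List.getD_eq_getElem _ _ hb'] at h
  have hnd : L.Nodup := (H97.SchurCert.increasing_nodup L hL).imp fun h => ne_of_lt h
  exact hnd.getElem_inj_iff.1 h

theorem relMask_mul (L : List ℕ) (σ τ : P24) (i j k : ℕ) (h1 : relMask L σ i j) (h2 : relMask L τ j k) :
    relMask L (τ * σ) i k := fun x => by rw [Equiv.Perm.mul_apply, h2 (σ x), h1 x]

theorem relMask_one {b b' : ℕ} (hb : b < Rep3.data.blocks.length) (hb' : b' < Rep3.data.blocks.length)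
    (h : relMask Rep3.labels 1 b b') : b = b' := by
  have hc := mask_inj
  simp only [Bool.and_eq_true, beq_iff_eq, List.all_eq_true, decide_eq_true_eq] at hc
  obtain ⟨⟨hlen, hlt⟩, hinc⟩ := hc
  refine (eq_of_getD hinc (hlen ▸ hb') (hlen ▸ hb) ?_).symm
  refine setOf'_injOn (hlt _ (getD_mem (hlen ▸ hb'))) (hlt _ (getD_mem (hlen ▸ hb))) ?_
  ext x
  rw [mem_setOf', mem_setOf']
  exact Eq.to_iff (congrArg (· = true) (h x))

theorem relConj_mul (σ τ : P24) (i j k : ℕ) (hi : i < Rep4.labels.length) (h1 : relConj Rep4.labels σ i j)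
    (h2 : relConj Rep4.labels τ j k) : relConj Rep4.labels (τ * σ) i k := fun x => by
  have hc := conj_inj
  simp only [Bool.and_eq_true, List.all_eq_true, decide_eq_true_eq, List.mem_range] at hc
  have hlt := (hc.1.2 _ (getD_mem hi)).2 (idx x).val (idx x).isLt
  set m : Fin 24 := ⟨_, hlt⟩
  rw [Equiv.Perm.mul_apply, h2 (σ x), h1 x, show img (Rep4.labels.getD i 0) (idx x).val = m.val from rfl,
    img_code σ m, img_code τ (idx (σ (pt m))), pt_idx, img_code (τ * σ) m, Equiv.Perm.mul_apply]

theorem relConj_one {b b' : ℕ} (hb : b < Rep4.data.blocks.length) (hb' : b' < Rep4.data.blocks.length)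
    (h : relConj Rep4.labels 1 b b') : b = b' := by
  have hc := conj_inj
  simp only [Bool.and_eq_true, beq_iff_eq, List.all_eq_true, decide_eq_true_eq, List.mem_range] at hc
  obtain ⟨⟨hlen, hall⟩, hinc⟩ := hc
  have hb1 : b < Rep4.labels.length := by rw [hlen]; exact hb
  have hb1' : b' < Rep4.labels.length := by rw [hlen]; exact hb'
  refine (eq_of_getD hinc hb1' hb1 ?_).symm
  refine (hall _ (getD_mem hb1')).1.symm.trans (Eq.trans ?_ (hall _ (getD_mem hb1)).1)
  have key : ∀ i < 24, img (Rep4.labels.getD b' 0) i = img (Rep4.labels.getD b 0) i := by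
    intro i hi
    have := h (pt ⟨i, hi⟩)
    simp only [Equiv.Perm.one_apply, idx_pt] at this
    rw [this, img_code 1 ⟨_, (hall _ (getD_mem hb1)).2 i hi⟩]
    simp [idx_pt]
  have hp : ∀ k ≤ 24, packAux (fun i => img (Rep4.labels.getD b' 0) i) k =
      packAux (fun i => img (Rep4.labels.getD b 0) i) k := by
    intro k hk
    induction k with
    | zero => rfl
    | succ k ih => simp only [packAux, ih (by omega), key k (by omega)]
  exact hp 24 le_rfl

/-! ### The triples -/

abbrev U4 := (Matrix (Fin Rep4.data.P.d) (Fin Rep4.data.P.d) (QR Rep4.data.P))ˣ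
abbrev U3 := (Matrix (Fin Rep3.data.P.d) (Fin Rep3.data.P.d) (QR Rep3.data.P))ˣ

instance finite_QR (P : Par) [NeZero P.p] : Finite (QR P) :=
  Finite.of_equiv _ (QuadraticAlgebra.equivProd _ _).symm

instance neZero_p4 : NeZero Rep4.data.P.p := ⟨by decide⟩
instance neZero_p3 : NeZero Rep3.data.P.p := ⟨by decide⟩

/-- Generator of the 16-dimensional group. -/
def unit4 (g : ℕ) (hg : g < 2) : U4 where
  val := Rep4.data.mat (Rep4.data.gmat g)
  inv := Rep4.data.mat (Rep4.data.imat g)
  val_inv := RepData.mul_eq_one_of_invOK Rep4.par_ok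
    (by have := List.all_eq_true.1 Rep4.gens_ok g (List.mem_range.2 hg)
        simp only [RepData.genOK, Bool.and_eq_true] at this; exact this.1)
  inv_val := RepData.mul_eq_one_of_invOK Rep4.par_ok
    (by have := List.all_eq_true.1 Rep4.gens_ok g (List.mem_range.2 hg)
        simp only [RepData.genOK, Bool.and_eq_true] at this; exact this.2)

/-- Generator of the 6-dimensional group. -/
def unit3 (g : ℕ) (hg : g < 2) : U3 where
  val := Rep3.data.mat (Rep3.data.gmat g)
  inv := Rep3.data.mat (Rep3.data.imat g)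
  val_inv := RepData.mul_eq_one_of_invOK Rep3.par_ok
    (by have := List.all_eq_true.1 Rep3.gens_ok g (List.mem_range.2 hg)
        simp only [RepData.genOK, Bool.and_eq_true] at this; exact this.1)
  inv_val := RepData.mul_eq_one_of_invOK Rep3.par_ok
    (by have := List.all_eq_true.1 Rep3.gens_ok g (List.mem_range.2 hg)
        simp only [RepData.genOK, Bool.and_eq_true] at this; exact this.2)

/-- A generator as a triple. -/
noncomputable def tgen : Fin 2 → P24 × U4 × U3 := fun i =>
  (if i = 0 then gA.1 else gB.1, unit4 i.val i.isLt, unit3 i.val i.isLt)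

/-- The group of triples. -/
noncomputable def T : Subgroup (P24 × U4 × U3) := Subgroup.closure (Set.range tgen)

/-- The invariant. -/
def InvT (x : P24 × U4 × U3) : Prop :=
  RepData.Good (fun σ b b' => b < Rep4.labels.length ∧ relConj Rep4.labels σ b b') Rep4.data x.1
      x.2.1.val ∧
    RepData.Good (relMask Rep3.labels) Rep3.data x.1 x.2.2.val

theorem inv_mem_T {x : P24 × U4 × U3} (hx : x ∈ T) : InvT x := by
  rw [T, ← Subgroup.mem_toSubmonoid, Subgroup.closure_toSubmonoid_of_finite] at hx
  induction hx using Submonoid.closure_induction with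
  | mem x hx =>
    obtain ⟨i, rfl⟩ := hx
    have hcode : code (tgen i).1 = [genA, genB].getD i.val 0 := by
      fin_cases i
      · exact code_gA
      · exact code_gB
    have hi : (i : ℕ) ∈ List.range 2 := List.mem_range.2 i.isLt
    refine ⟨RepData.good_gen (g := i) Rep4.par_ok ?_ fun b hb => ⟨?_, fun y => ?_⟩,
      RepData.good_gen (g := i) Rep3.par_ok ?_ fun b hb y => ?_⟩
    · fin_cases i
      · exact Rep4.act0_ok
      · exact Rep4.act1_ok
    · have hc := conj_inj
      simp only [Bool.and_eq_true, beq_iff_eq] at hc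
      rw [hc.1.1]; exact hb
    · have h := List.all_eq_true.1 (List.all_eq_true.1 (List.all_eq_true.1 conj_ok i hi) b
        (List.mem_range.2 hb)) (idx y).val (List.mem_range.2 (idx y).isLt)
      rw [beq_iff_eq, ← hcode, img_code, pt_idx] at h
      exact h
    · fin_cases i
      · exact Rep3.act0_ok
      · exact Rep3.act1_ok
    · have h := List.all_eq_true.1 (List.all_eq_true.1 (List.all_eq_true.1 mask_ok i hi) b
        (List.mem_range.2 hb)) (idx y).val (List.mem_range.2 (idx y).isLt)
      rw [beq_iff_eq, ← hcode, img_code, pt_idx] at h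
      exact h
  | one =>
    refine ⟨RepData.good_one fun b hb => ⟨?_, fun y => ?_⟩, RepData.good_one fun b _ y => rfl⟩
    · have hc := conj_inj
      simp only [Bool.and_eq_true, beq_iff_eq] at hc
      rw [hc.1.1]; exact hb
    · have hc := conj_inj
      simp only [Bool.and_eq_true, beq_iff_eq, List.all_eq_true, decide_eq_true_eq, List.mem_range] at hc
      have hlt := (hc.1.2 _ (getD_mem (L := Rep4.labels) (b := b) (by rw [hc.1.1]; exact hb))).2
        (idx y).val (idx y).isLt
      rw [img_code 1 ⟨_, hlt⟩]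
      simp [idx_pt]
  | mul x y _ _ hx hy =>
    exact ⟨RepData.good_mul (fun σ τ i j k h1 h2 => ⟨h1.1, relConj_mul σ τ i j k h1.1 h1.2 h2.2⟩)
        hy.1 hx.1,
      RepData.good_mul (relMask_mul _) hy.2 hx.2⟩

theorem fst_mem {x : P24 × U4 × U3} (hx : x ∈ T) : x.1 ∈ Spor.M22 := by
  have h : T ≤ (Spor.M22).comap (MonoidHom.fst P24 (U4 × U3)) := by
    rw [T, Subgroup.closure_le]
    rintro _ ⟨i, rfl⟩
    show (if i = 0 then gA.1 else gB.1) ∈ Spor.M22
    split
    · exact gA.2
    · exact gB.2
  exact h hx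

/-- The projection. -/
noncomputable def proj : T →* Spor.M22 :=
  ((MonoidHom.fst P24 (U4 × U3)).comp T.subtype).codRestrict _ fun x => fst_mem x.2

theorem proj_surjective : Function.Surjective proj := by
  have h : Spor.M22 ≤ T.map (MonoidHom.fst P24 (U4 × U3)) := by
    refine closure_gens.ge.trans ((Subgroup.closure_le _).2 ?_)
    rintro x (rfl | rfl)
    · exact ⟨tgen 0, Subgroup.subset_closure ⟨0, rfl⟩, by simp [tgen]⟩
    · exact ⟨tgen 1, Subgroup.subset_closure ⟨1, rfl⟩, by simp [tgen]⟩
  intro g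
  obtain ⟨x, hx, e⟩ := h g.2
  exact ⟨⟨x, hx⟩, Subtype.ext e⟩

theorem ker_scalar {x : T} (hx : x ∈ proj.ker) :
    (∃ c : QR Rep4.data.P, x.1.2.1.val = c • 1) ∧
      ∃ c : QR Rep3.data.P, x.1.2.2.val = c • 1 := by
  have h1 : x.1.1 = 1 := congrArg Subtype.val hx
  obtain ⟨h4, h3⟩ := inv_mem_T x.2
  rw [h1] at h4 h3
  exact ⟨RepData.scalar_of_good Rep4.par_ok Rep4.proj_ok Rep4.alg_ok Rep4.span_ok
      (fun b b' hb hb' h => relConj_one hb hb' h.2) h4,
    RepData.scalar_of_good Rep3.par_ok Rep3.proj_ok Rep3.alg_ok Rep3.span_ok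
      (fun b b' hb hb' h => relMask_one hb hb' h) h3⟩

theorem ker_le_center : proj.ker ≤ Subgroup.center T := by
  intro x hx
  obtain ⟨⟨c, hc⟩, c', hc'⟩ := ker_scalar hx
  have h1 : x.1.1 = 1 := congrArg Subtype.val hx
  rw [Subgroup.mem_center_iff]
  intro y
  refine Subtype.ext (Prod.ext ?_ (Prod.ext (Units.ext ?_) (Units.ext ?_)))
  · show y.1.1 * x.1.1 = x.1.1 * y.1.1
    rw [h1, mul_one, one_mul]
  · show y.1.2.1.val * x.1.2.1.val = x.1.2.1.val * y.1.2.1.val
    rw [hc, Matrix.mul_smul, Matrix.smul_mul, mul_one, one_mul]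
  · show y.1.2.2.val * x.1.2.2.val = x.1.2.2.val * y.1.2.2.val
    rw [hc', Matrix.mul_smul, Matrix.smul_mul, mul_one, one_mul]

/-- A word in the triples. -/
noncomputable def wd (w : List ℕ) : T :=
  (w.map fun g => (⟨tgen (if g = 0 then 0 else 1), Subgroup.subset_closure ⟨_, rfl⟩⟩ : T)).prod

theorem wd_append (u v : List ℕ) : wd (u ++ v) = wd u * wd v := by
  rw [wd, List.map_append, List.prod_append]; rfl

/-- The word in codes. -/
def wordCodeP (w : List ℕ) : ℕ := w.foldr (fun g acc => compN (if g = 0 then genA else genB) acc) idN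

theorem code_wd : ∀ w : List ℕ, code (wd w).1.1 = wordCodeP w
  | [] => code_one
  | g :: w => by
    show code ((tgen (if g = 0 then 0 else 1)).1 * (wd w).1.1) = compN _ _
    rw [code_mul, code_wd w]
    congr 1
    by_cases h : g = 0
    · simp [h, tgen, code_gA]
    · simp [h, tgen, code_gB]

theorem snd4_wd : ∀ w : List ℕ, (∀ g ∈ w, g < 2) →
    (wd w).1.2.1.val =
      (w.map fun g => Rep4.data.mat (Rep4.data.gmat g)).prod
  | [], _ => rfl
  | g :: w, h => by
    show (tgen (if g = 0 then 0 else 1)).2.1.val * (wd w).1.2.1.val = _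
    rw [snd4_wd w fun a ha => h a (List.mem_cons_of_mem _ ha), List.map_cons, List.prod_cons]
    have := h g List.mem_cons_self
    interval_cases g <;> rfl

theorem snd3_wd : ∀ w : List ℕ, (∀ g ∈ w, g < 2) →
    (wd w).1.2.2.val =
      (w.map fun g => Rep3.data.mat (Rep3.data.gmat g)).prod
  | [], _ => rfl
  | g :: w, h => by
    show (tgen (if g = 0 then 0 else 1)).2.2.val * (wd w).1.2.2.val = _
    rw [snd3_wd w fun a ha => h a (List.mem_cons_of_mem _ ha), List.map_cons, List.prod_cons]
    have := h g List.mem_cons_self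
    interval_cases g <;> rfl

theorem comm_ker {u v : List ℕ} (h : wordCodeP (u ++ v) = wordCodeP (v ++ u)) :
    ⁅wd u, wd v⁆ ∈ proj.ker := by
  rw [MonoidHom.mem_ker, map_commutatorElement, commutatorElement_eq_one_iff_mul_comm, ← map_mul,
    ← map_mul, ← wd_append, ← wd_append]
  refine Subtype.ext (code_inj ?_)
  show code (wd _).1.1 = code (wd _).1.1
  rw [code_wd, code_wd, h]

theorem scl_pow_inj {P : Par} [NeZero P.p] (hd : 0 < P.d) {M : (Matrix (Fin P.d) (Fin P.d) (QR P))ˣ}
    {c : QR P} (hM : M.val = c • 1) (k : ℕ) : M ^ k = 1 ↔ c ^ k = 1 := by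
  rw [Units.ext_iff, Units.val_pow_eq_pow_val, hM, smul_pow, one_pow, Units.val_one]
  refine ⟨fun h => ?_, fun h => by rw [h, one_smul]⟩
  have := congrFun (congrFun h ⟨0, hd⟩) ⟨0, hd⟩
  simpa using this

theorem words4 : wordCodeP (Rep4.word1 ++ Rep4.word2) = wordCodeP (Rep4.word2 ++ Rep4.word1) ∧
    (Rep4.word1 ++ Rep4.word2).all (· < 2) = true ∧ (Rep4.word2 ++ Rep4.word1).all (· < 2) = true := by
  decide +kernel

theorem words3 : wordCodeP (Rep3.word1 ++ Rep3.word2) = wordCodeP (Rep3.word2 ++ Rep3.word1) ∧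
    (Rep3.word1 ++ Rep3.word2).all (· < 2) = true ∧ (Rep3.word2 ++ Rep3.word1).all (· < 2) = true := by
  decide +kernel

theorem snd4_comm : (⁅wd Rep4.word1, wd Rep4.word2⁆ : T).1.2.1.val =
    scl Rep4.data.P Rep4.scalar • 1 := by
  obtain ⟨-, h1, h2⟩ := words4
  simp only [List.all_eq_true, decide_eq_true_eq] at h1 h2
  have e := RepData.words_spec Rep4.par_ok Rep4.words_ok
  rw [← snd4_wd _ h1, ← snd4_wd _ h2, wd_append, wd_append] at e
  set a := (wd Rep4.word1).1.2.1
  set b := (wd Rep4.word2).1.2.1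
  show (a * b * a⁻¹ * b⁻¹ : U4).val = _
  rw [mul_assoc (a * b), ← mul_inv_rev, Units.val_mul,
    show (a * b : U4).val = scl Rep4.data.P Rep4.scalar • (b * a : U4).val from e,
    Matrix.smul_mul, ← Units.val_mul, mul_inv_cancel, Units.val_one]

theorem snd3_comm : (⁅wd Rep3.word1, wd Rep3.word2⁆ : T).1.2.2.val =
    scl Rep3.data.P Rep3.scalar • 1 := by
  obtain ⟨-, h1, h2⟩ := words3
  simp only [List.all_eq_true, decide_eq_true_eq] at h1 h2
  have e := RepData.words_spec Rep3.par_ok Rep3.words_ok
  rw [← snd3_wd _ h1, ← snd3_wd _ h2, wd_append, wd_append] at e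
  set a := (wd Rep3.word1).1.2.2
  set b := (wd Rep3.word2).1.2.2
  show (a * b * a⁻¹ * b⁻¹ : U3).val = _
  rw [mul_assoc (a * b), ← mul_inv_rev, Units.val_mul,
    show (a * b : U3).val = scl Rep3.data.P Rep3.scalar • (b * a : U3).val from e,
    Matrix.smul_mul, ← Units.val_mul, mul_inv_cancel, Units.val_one]

theorem hasCyclicSchurMultiplier_M22 : Cfsg.HasCyclicSchurMultiplier ↥Spor.M22 12 := by
  classical
  obtain ⟨hmap, hperf⟩ := H39.L34.commutator_perfect proj ker_le_center proj_surjective M22_perfect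
  set D := commutator T
  let π : D →* Spor.M22 := proj.comp D.subtype
  have hπ : IsStemExtension π := by
    refine ⟨fun g => ?_, fun x hx => ?_, by rw [hperf]; exact le_top⟩
    · obtain ⟨x, hx, e⟩ := hmap.ge (Subgroup.mem_top g)
      exact ⟨⟨x, hx⟩, e⟩
    · rw [Subgroup.mem_center_iff]
      exact fun y => Subtype.ext (Subgroup.mem_center_iff.1 (ker_le_center (show x.1 ∈ proj.ker from hx)) y.1)
  obtain ⟨hcyc, hdvd⟩ := ker_cyclic π hπ
  have mk : ∀ u v : List ℕ, wordCodeP (u ++ v) = wordCodeP (v ++ u) →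
      ∃ y : π.ker, (y : D).1 = ⁅wd u, wd v⁆ := fun u v h =>
    ⟨⟨⟨⁅wd u, wd v⁆, Subgroup.commutator_mem_commutator (Subgroup.mem_top _) (Subgroup.mem_top _)⟩,
      comm_ker h⟩, rfl⟩
  obtain ⟨y4, hy4⟩ := mk _ _ words4.1
  obtain ⟨y3, hy3⟩ := mk _ _ words3.1
  let f4 : π.ker →* U4 := ((MonoidHom.fst U4 U3).comp (MonoidHom.snd P24 (U4 × U3))).comp
    (T.subtype.comp (D.subtype.comp π.ker.subtype))
  let f3 : π.ker →* U3 := ((MonoidHom.snd U4 U3).comp (MonoidHom.snd P24 (U4 × U3))).comp
    (T.subtype.comp (D.subtype.comp π.ker.subtype))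
  have e4 : (f4 y4).val = scl Rep4.data.P Rep4.scalar • 1 := by
    show ((y4 : D).1).1.2.1.val = _
    rw [hy4, snd4_comm]
  have e3 : (f3 y3).val = scl Rep3.data.P Rep3.scalar • 1 := by
    show ((y3 : D).1).1.2.2.val = _
    rw [hy3, snd3_comm]
  have o4 : orderOf (f4 y4) = 4 := by
    haveI := Fact.mk Nat.prime_two
    rw [show (4 : ℕ) = 2 ^ (1 + 1) by rfl]
    refine orderOf_eq_prime_pow ?_ ?_ <;> rw [scl_pow_inj (by decide) e4] <;> decide +kernel
  have o3 : orderOf (f3 y3) = 3 := by
    haveI := Fact.mk Nat.prime_three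
    refine orderOf_eq_prime ?_ fun h => ?_
    · rw [scl_pow_inj (by decide) e3]; decide +kernel
    · have := (scl_pow_inj (by decide) e3 1).1 (by rw [pow_one, h])
      revert this
      decide +kernel
  have d4 : 4 ∣ Nat.card π.ker := o4 ▸ (orderOf_map_dvd f4 y4).trans (orderOf_dvd_natCard y4)
  have d3 : 3 ∣ Nat.card π.ker := o3 ▸ (orderOf_map_dvd f3 y3).trans (orderOf_dvd_natCard y3)
  have hcard : Nat.card π.ker = 12 :=
    Nat.dvd_antisymm hdvd ((show Nat.Coprime 4 3 by decide).mul_dvd_of_dvd_of_dvd d4 d3)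
  refine ⟨⟨D, inferInstance, inferInstance, π, hπ, ⟨?_⟩⟩, fun Γ _ _ σ hσ => ?_⟩
  · exact (mulEquivOfCyclicCardEq (G := π.ker) (G' := Multiplicative (ZMod 12))
      (by rw [hcard, Nat.card_congr Multiplicative.toAdd, Nat.card_zmod]))
  · obtain ⟨hc, hd⟩ := ker_cyclic σ hσ
    obtain ⟨g, hg⟩ := hc.exists_generator
    have h12 : g ^ 12 = 1 := orderOf_dvd_iff_pow_eq_one.1 ((orderOf_dvd_natCard g).trans hd)
    let φ := (ZMod.lift 12 ⟨zmultiplesHom _ (Additive.ofMul g), by
      rw [zmultiplesHom_apply, ← ofMul_zpow, zpow_natCast, h12]; rfl⟩).toMultiplicativeLeft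
    refine ⟨φ, fun z => ?_⟩
    obtain ⟨k, hk⟩ := Subgroup.mem_zpowers_iff.1 (hg z)
    refine ⟨Multiplicative.ofAdd (k : ZMod 12), ?_⟩
    show Additive.toMul (ZMod.lift 12 _ (k : ZMod 12)) = z
    rw [ZMod.lift_coe, zmultiplesHom_apply, ← ofMul_zpow]
    exact hk

end H39.M22
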