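import Mathlib.GroupTheory.Commutator.Basic
import Mathlib.GroupTheory.OrderOfElement
import Mathlib.Algebra.Group.Submonoid.Membership
import Mathlib.Data.List.GetD
import Cfsg.Agent.H39.M22.Lanes

/-!
Certificate that the group generated by some matrices over a set of permutations has scalar kernel:
the matrices permute labelled vectors, hence the kernel commutes with projections to spans of such
vectors, hence it fixes a line spanned by a kernel in the algebra generated by those.
-/

set_option autoImplicit false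

namespace H39.M22

/-- The certificate. -/
structure RepData where
  P : Par
  gcols : List (List (ℕ × ℕ))
  icols : List (List (ℕ × ℕ))
  blocks : List (List (ℕ × ℕ))
  acts : List (List (ℕ × List (ℕ × ℕ × ℕ)))
  projs : List (List ℕ × List ℕ × List (ℕ × ℕ) × List (ℕ × ℕ))
  lam : ℕ × ℕ
  mu : ℕ × ℕ
  nu : ℕ × ℕ
  acols : List (ℕ × ℕ)
  bcols : List (ℕ × ℕ)
  w : ℕ × ℕ
  r : ℕ
  spans : List (ℕ × ℕ)
  how : List (ℕ × ℕ)
  sinv : List (ℕ × ℕ)

namespace RepData

variable (D : RepData)

/-- A vector by block and position. -/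
def bvec (b s : ℕ) : ℕ × ℕ := (D.blocks.getD b []).getD s (0, 0)

/-- The size of a block. -/
def bsize (b : ℕ) : ℕ := (D.blocks.getD b []).length

/-- A generator. -/
def gmat (g : ℕ) : List (ℕ × ℕ) := D.gcols.getD g []

/-- Its inverse. -/
def imat (g : ℕ) : List (ℕ × ℕ) := D.icols.getD g []

/-- The action of a generator on a block. -/
def act (g b : ℕ) : ℕ × List (ℕ × ℕ × ℕ) := (D.acts.getD g []).getD b (0, [])

/-- `X * Y = 1`. -/
def invOK (X Y : List (ℕ × ℕ)) : Bool :=
  (List.range D.P.d).all fun k => eqLin D.P (mvT D.P X (Y.getD k (0, 0))) [((1, 0), unitV k)]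

/-- One generator. -/
def genOK (g : ℕ) : Bool := D.invOK (D.gmat g) (D.imat g) && D.invOK (D.imat g) (D.gmat g)

/-- One generator permutes one block's vectors up to scalars. -/
def actOK (g b : ℕ) : Bool :=
  decide ((D.act g b).1 < D.blocks.length) && (List.range (D.bsize b)).all fun s =>
    decide (((D.act g b).2.getD s (0, 0, 0)).1 < D.bsize (D.act g b).1) &&
      eqLin D.P (mvT D.P (D.gmat g) (D.bvec b s))
        [(((D.act g b).2.getD s (0, 0, 0)).2,
          D.bvec (D.act g b).1 ((D.act g b).2.getD s (0, 0, 0)).1)]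

/-- The basis of a projection. -/
def pbasis (j : ℕ) : List (ℕ × ℕ) :=
  ((D.projs.getD j ([], [], [], [])).1 ++ (D.projs.getD j ([], [], [], [])).2.1).flatMap
    fun b => D.blocks.getD b []

/-- The projection. -/
def pmat (j : ℕ) : List (ℕ × ℕ) := (D.projs.getD j ([], [], [], [])).2.2.1

/-- One projection. -/
def projOK (j : ℕ) : Bool :=
  decide ((D.pbasis j).length = D.P.d) &&
  D.invOK (D.pbasis j) (D.projs.getD j ([], [], [], [])).2.2.2 &&
  ((D.projs.getD j ([], [], [], [])).1.all fun b => decide (b < D.blocks.length) &&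
    (List.range (D.bsize b)).all fun s =>
      eqLin D.P (mvT D.P (D.pmat j) (D.bvec b s)) [((1, 0), D.bvec b s)]) &&
  (D.projs.getD j ([], [], [], [])).2.1.all fun b => decide (b < D.blocks.length) &&
    (List.range (D.bsize b)).all fun s => eqLin D.P (mvT D.P (D.pmat j) (D.bvec b s)) []

/-- The element of the algebra with one-dimensional kernel. -/
def algOK : Bool :=
  ((List.range D.P.d).all fun k =>
    eqLin D.P (mvT D.P (D.pmat 0) ((D.pmat 1).getD k (0, 0)) ++
        [(D.lam, (D.pmat 1).getD k (0, 0)), (D.mu, (D.pmat 2).getD k (0, 0)), (D.nu, unitV k)])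
      [((1, 0), D.acols.getD k (0, 0))] &&
    eqLin D.P (mvT D.P D.bcols (D.acols.getD k (0, 0)) ++ [((if k = D.r then 1 else 0, 0), D.w)])
      [((1, 0), unitV k)]) &&
  eqLin D.P (mvT D.P D.acols D.w) [] && decide (D.r < D.P.d)

/-- The spanning set. -/
def spanOK : Bool :=
  D.invOK D.spans D.sinv &&
  eqLin D.P [((1, 0), D.spans.getD 0 (0, 0))] [((1, 0), D.w)] &&
  (List.range D.P.d).all fun i => i == 0 ||
    (decide ((D.how.getD i (0, 0)).1 < i) && decide ((D.how.getD i (0, 0)).2 < 3) &&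
      eqLin D.P (mvT D.P (D.pmat (D.how.getD i (0, 0)).2) (D.spans.getD (D.how.getD i (0, 0)).1 (0, 0)))
        [((1, 0), D.spans.getD i (0, 0))])

/-- Apply a word of generators to a vector, remembering validity. -/
def ev (w : List ℕ) (v : ℕ × ℕ) : (ℕ × ℕ) × Bool :=
  w.foldr (fun g a => (normV D.P (lin D.P (mvT D.P (D.gmat g) a.1)),
    a.2 && smallT D.P (mvT D.P (D.gmat g) a.1))) (v, true)

/-- Two words differ by the scalar `c`. -/
def wordsOK (u v : List ℕ) (c : ℕ × ℕ) : Bool :=
  (List.range D.P.d).all fun k =>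
    (D.ev u (unitV k)).2 && (D.ev v (unitV k)).2 &&
      eqLin D.P [((1, 0), (D.ev u (unitV k)).1)] [(c, (D.ev v (unitV k)).1)]

/-- The matrix of a coded list of columns. -/
abbrev mat (X : List (ℕ × ℕ)) : Matrix (Fin D.P.d) (Fin D.P.d) (QR D.P) := matOf D.P X

variable {D}

theorem mulVec_of_eq (hP : D.P.ok = true) {X : List (ℕ × ℕ)} {v u : ℕ × ℕ} {c : ℕ × ℕ}
    (h : eqLin D.P (mvT D.P X v) [(c, u)] = true) :
    Matrix.mulVec (D.mat X) (vec D.P v) = scl D.P c • vec D.P u := by
  rw [← sum_mvT, eqLin_spec hP h, List.map_singleton, List.sum_singleton]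

theorem col_eq (X : List (ℕ × ℕ)) (k : Fin D.P.d) :
    Matrix.mulVec (D.mat X) (Pi.single k 1) = vec D.P (X.getD k (0, 0)) := by
  funext i
  simp [Matrix.mulVec_single_one, mat, matOf]

theorem mul_eq_one_of_invOK (hP : D.P.ok = true) {X Y : List (ℕ × ℕ)} (h : D.invOK X Y = true) :
    D.mat X * D.mat Y = 1 := by
  refine Matrix.ext_of_mulVec_single fun k => ?_
  rw [← Matrix.mulVec_mulVec, col_eq, Matrix.one_mulVec,
    mulVec_of_eq hP (List.all_eq_true.1 h k (List.mem_range.2 k.isLt)), scl_one, one_smul, vec_unitV]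

/-- The matrices moving the labelled blocks as `σ` does. -/
def Good {S : Type*} (Rel : S → ℕ → ℕ → Prop) (D : RepData) (σ : S)
    (M : Matrix (Fin D.P.d) (Fin D.P.d) (QR D.P)) : Prop :=
  ∀ b < D.blocks.length, ∃ b' < D.blocks.length, Rel σ b b' ∧ ∀ s < D.bsize b,
    ∃ s' < D.bsize b', ∃ c : QR D.P, Matrix.mulVec M (vec D.P (D.bvec b s)) = c • vec D.P (D.bvec b' s')

variable {S : Type*} [Monoid S] {Rel : S → ℕ → ℕ → Prop}

theorem good_one (h1 : ∀ b < D.blocks.length, Rel 1 b b) : Good Rel D 1 1 :=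
  fun b hb => ⟨b, hb, h1 b hb, fun s hs => ⟨s, hs, 1, by rw [Matrix.one_mulVec, one_smul]⟩⟩

theorem good_mul (hmul : ∀ σ τ i j k, Rel σ i j → Rel τ j k → Rel (τ * σ) i k) {σ τ : S}
    {M N : Matrix (Fin D.P.d) (Fin D.P.d) (QR D.P)} (hM : Good Rel D σ M) (hN : Good Rel D τ N) :
    Good Rel D (τ * σ) (N * M) := by
  intro b hb
  obtain ⟨b1, hb1, r1, h1⟩ := hM b hb
  obtain ⟨b2, hb2, r2, h2⟩ := hN b1 hb1
  refine ⟨b2, hb2, hmul _ _ _ _ _ r1 r2, fun s hs => ?_⟩
  obtain ⟨s1, hs1, c1, e1⟩ := h1 s hs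
  obtain ⟨s2, hs2, c2, e2⟩ := h2 s1 hs1
  exact ⟨s2, hs2, c1 * c2, by rw [← Matrix.mulVec_mulVec, e1, Matrix.mulVec_smul, e2, smul_smul]⟩

theorem good_gen (hP : D.P.ok = true) {g : ℕ} {σ : S}
    (h : (List.range D.blocks.length).all (D.actOK g) = true)
    (hrel : ∀ b < D.blocks.length, Rel σ b (D.act g b).1) :
    Good Rel D σ (D.mat (D.gmat g)) := by
  intro b hb
  have hb' := List.all_eq_true.1 h b (List.mem_range.2 hb)
  simp only [actOK, Bool.and_eq_true, decide_eq_true_eq, List.all_eq_true, List.mem_range] at hb'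
  exact ⟨_, hb'.1, hrel b hb, fun s hs => ⟨_, (hb'.2 s hs).1, _, mulVec_of_eq hP (hb'.2 s hs).2⟩⟩

theorem commute_proj (hP : D.P.ok = true) {j : ℕ} (h : D.projOK j = true)
    {M : Matrix (Fin D.P.d) (Fin D.P.d) (QR D.P)}
    (hM : ∀ b < D.blocks.length, ∀ s < D.bsize b, ∃ s' < D.bsize b, ∃ c : QR D.P,
      Matrix.mulVec M (vec D.P (D.bvec b s)) = c • vec D.P (D.bvec b s')) :
    M * D.mat (D.pmat j) = D.mat (D.pmat j) * M := by
  simp only [projOK, Bool.and_eq_true, decide_eq_true_eq, List.all_eq_true, List.mem_range] at h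
  obtain ⟨⟨⟨hlen, hinv⟩, hu⟩, hw⟩ := h
  have hfix : ∀ b ∈ (D.projs.getD j ([], [], [], [])).1, ∀ s < D.bsize b,
      Matrix.mulVec (D.mat (D.pmat j)) (vec D.P (D.bvec b s)) = vec D.P (D.bvec b s) := fun b hb s hs => by
    rw [mulVec_of_eq hP ((hu b hb).2 s hs), scl_one, one_smul]
  have hkill : ∀ b ∈ (D.projs.getD j ([], [], [], [])).2.1, ∀ s < D.bsize b,
      Matrix.mulVec (D.mat (D.pmat j)) (vec D.P (D.bvec b s)) = 0 := fun b hb s hs => by
    rw [← sum_mvT, eqLin_spec hP ((hw b hb).2 s hs), List.map_nil, List.sum_nil]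
  have key : M * D.mat (D.pmat j) * D.mat (D.pbasis j) = D.mat (D.pmat j) * M * D.mat (D.pbasis j) := by
    refine Matrix.ext_of_mulVec_single fun k => ?_
    simp only [← Matrix.mulVec_mulVec, col_eq]
    have hk : (D.pbasis j).getD k (0, 0) ∈ D.pbasis j := by
      rw [List.getD_eq_getElem _ _ (show (k : ℕ) < (D.pbasis j).length by rw [hlen]; exact k.isLt)]
      exact List.getElem_mem _
    generalize (D.pbasis j).getD k (0, 0) = v at hk
    obtain ⟨b, hb, hv⟩ := List.mem_flatMap.1 hk
    obtain ⟨s, hs, rfl⟩ := List.getElem_of_mem hv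
    rw [show (D.blocks.getD b [])[s] = D.bvec b s from (List.getD_eq_getElem _ _ hs).symm]
    rcases List.mem_append.1 hb with hb' | hb'
    · obtain ⟨s', hs', c, e⟩ := hM b (hu b hb').1 s hs
      rw [hfix b hb' s hs, e, Matrix.mulVec_smul, hfix b hb' s' hs']
    · obtain ⟨s', hs', c, e⟩ := hM b (hw b hb').1 s hs
      rw [hkill b hb' s hs, e, Matrix.mulVec_smul, hkill b hb' s' hs', smul_zero, Matrix.mulVec_zero]
  have h2 := congrArg (· * D.mat (D.projs.getD j ([], [], [], [])).2.2.2) key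
  replace h2 : M * D.mat (D.pmat j) * D.mat (D.pbasis j) *
      D.mat (D.projs.getD j ([], [], [], [])).2.2.2 = D.mat (D.pmat j) * M * D.mat (D.pbasis j) *
      D.mat (D.projs.getD j ([], [], [], [])).2.2.2 := h2
  rwa [mul_assoc, mul_eq_one_of_invOK hP hinv, mul_one, mul_assoc, mul_eq_one_of_invOK hP hinv,
    mul_one] at h2

/-- Matrices fixing every block are scalar. -/
theorem scalar_of_good (hP : D.P.ok = true) (hproj : (List.range 3).all D.projOK = true)
    (halg : D.algOK = true) (hspan : D.spanOK = true)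
    (hrel : ∀ b b', b < D.blocks.length → b' < D.blocks.length → Rel 1 b b' → b = b')
    {M : Matrix (Fin D.P.d) (Fin D.P.d) (QR D.P)} (hM : Good Rel D 1 M) :
    ∃ c : QR D.P, M = c • 1 := by
  have hM' : ∀ b < D.blocks.length, ∀ s < D.bsize b, ∃ s' < D.bsize b, ∃ c : QR D.P,
      Matrix.mulVec M (vec D.P (D.bvec b s)) = c • vec D.P (D.bvec b s') := by
    intro b hb
    obtain ⟨b', hb', r, h⟩ := hM b hb
    obtain rfl := hrel b b' hb hb' r
    exact h
  have hE : ∀ j < 3, M * D.mat (D.pmat j) = D.mat (D.pmat j) * M := fun j hj =>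
    commute_proj hP (List.all_eq_true.1 hproj j (List.mem_range.2 hj)) hM'
  simp only [algOK, Bool.and_eq_true, decide_eq_true_eq, List.all_eq_true, List.mem_range] at halg
  obtain ⟨⟨hcols, hw⟩, hr⟩ := halg
  have hA : D.mat D.acols = D.mat (D.pmat 0) * D.mat (D.pmat 1) + scl D.P D.lam • D.mat (D.pmat 1) +
      scl D.P D.mu • D.mat (D.pmat 2) + scl D.P D.nu • 1 := by
    refine Matrix.ext_of_mulVec_single fun k => ?_
    have := eqLin_spec hP (hcols k k.isLt).1
    rw [List.map_append, List.sum_append, sum_mvT] at this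
    simp only [List.map_cons, List.map_nil, List.sum_cons, List.sum_nil, add_zero, scl_one, one_smul,
      vec_unitV] at this
    simp only [Matrix.add_mulVec, Matrix.smul_mulVec, ← Matrix.mulVec_mulVec, Matrix.one_mulVec,
      col_eq]
    rw [← this]
    simp only [add_assoc]
  have hMA : M * D.mat D.acols = D.mat D.acols * M := by
    have h01 : M * (D.mat (D.pmat 0) * D.mat (D.pmat 1)) = D.mat (D.pmat 0) * D.mat (D.pmat 1) * M := by
      rw [← mul_assoc, hE 0 (by norm_num), mul_assoc, hE 1 (by norm_num), mul_assoc]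
    rw [hA]
    simp only [mul_add, add_mul, Matrix.mul_smul, Matrix.smul_mul, mul_one, one_mul, h01,
      hE 1 (by norm_num), hE 2 (by norm_num)]
  have hAw : Matrix.mulVec (D.mat D.acols) (vec D.P D.w) = 0 := by
    rw [← sum_mvT, eqLin_spec hP hw, List.map_nil, List.sum_nil]
  have hdec : ∀ y, Matrix.mulVec (D.mat D.acols) y = 0 → y = y ⟨D.r, hr⟩ • vec D.P D.w := by
    intro y hy
    have e : D.mat D.bcols * D.mat D.acols + Matrix.vecMulVec (vec D.P D.w) (Pi.single ⟨D.r, hr⟩ 1) = 1 := by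
      refine Matrix.ext_of_mulVec_single fun k => ?_
      have := eqLin_spec hP (hcols k k.isLt).2
      rw [List.map_append, List.sum_append, sum_mvT] at this
      simp only [List.map_singleton, List.sum_singleton, scl_one, one_smul, vec_unitV] at this
      rw [Matrix.add_mulVec, ← Matrix.mulVec_mulVec, col_eq, Matrix.one_mulVec]
      refine Eq.trans ?_ this
      congr 1
      funext i
      rw [Matrix.mulVec_single_one]
      simp only [Pi.smul_apply, smul_eq_mul, Matrix.col_apply, Matrix.vecMulVec_apply]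
      rcases eq_or_ne (k : ℕ) D.r with h | h
      · obtain rfl : k = ⟨D.r, hr⟩ := Fin.ext h
        rw [if_pos rfl, scl_one, Pi.single_eq_same, mul_one, one_mul]
      · rw [if_neg h, Pi.single_eq_of_ne (fun e => h (congrArg Fin.val e)), mul_zero,
          show scl D.P (0, 0) = 0 by ext <;> simp [scl], zero_mul]
    have := congrArg (fun X => Matrix.mulVec X y) e
    simp only [Matrix.add_mulVec, ← Matrix.mulVec_mulVec, hy, Matrix.mulVec_zero, zero_add,
      Matrix.one_mulVec] at this
    conv_lhs => rw [← this]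
    funext i
    simp [Matrix.mulVec, dotProduct, Matrix.vecMulVec_apply, Pi.single_apply, mul_comm]
  set y := Matrix.mulVec M (vec D.P D.w) with hy
  refine ⟨y ⟨D.r, hr⟩, ?_⟩
  have hw' : y = y ⟨D.r, hr⟩ • vec D.P D.w := hdec y (by
    rw [hy, Matrix.mulVec_mulVec, ← hMA, ← Matrix.mulVec_mulVec, hAw, Matrix.mulVec_zero])
  simp only [spanOK, Bool.and_eq_true, decide_eq_true_eq, List.all_eq_true, List.mem_range,
    Bool.or_eq_true, beq_iff_eq] at hspan
  obtain ⟨⟨hinv, h0⟩, hstep⟩ := hspan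
  have hs : ∀ i < D.P.d, Matrix.mulVec M (vec D.P (D.spans.getD i (0, 0))) =
      y ⟨D.r, hr⟩ • vec D.P (D.spans.getD i (0, 0)) := by
    intro i
    induction i using Nat.strong_induction_on with
    | _ i ih =>
      intro hi
      rcases hstep i hi with rfl | ⟨⟨hpar, hk⟩, he⟩
      · have := eqLin_spec hP h0
        simp only [List.map_singleton, List.sum_singleton, scl_one, one_smul] at this
        rw [this, ← hy]
        exact hw'
      · have e := mulVec_of_eq hP he
        rw [scl_one, one_smul] at e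
        rw [← e, Matrix.mulVec_mulVec, hE _ hk, ← Matrix.mulVec_mulVec, ih _ hpar (by omega),
          Matrix.mulVec_smul]
  have hMS : M * D.mat D.spans = (y ⟨D.r, hr⟩ • (1 : Matrix (Fin D.P.d) (Fin D.P.d) (QR D.P))) * D.mat D.spans :=
    Matrix.ext_of_mulVec_single fun k => by
      rw [← Matrix.mulVec_mulVec, ← Matrix.mulVec_mulVec, col_eq, hs k k.isLt, Matrix.smul_mulVec,
        Matrix.one_mulVec]
  have := congrArg (· * D.mat D.sinv) hMS
  simpa [mul_assoc, mul_eq_one_of_invOK hP hinv] using this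

theorem ev_spec (hP : D.P.ok = true) : ∀ (w : List ℕ) (v : ℕ × ℕ), (D.ev w v).2 = true →
    vec D.P (D.ev w v).1 = Matrix.mulVec (w.map fun g => D.mat (D.gmat g)).prod (vec D.P v)
  | [], v, _ => by simp [ev]
  | g :: w, v, h => by
    simp only [ev, List.foldr_cons, Bool.and_eq_true] at h
    have ih := ev_spec hP w v h.1
    show vec D.P (normV D.P (lin D.P (mvT D.P (D.gmat g) (D.ev w v).1))) = _
    have h2 : smallT D.P (mvT D.P (D.gmat g) (D.ev w v).1) = true := h.2
    rw [vec_normV hP, (lin_spec hP _ h2).2, sum_mvT, ih, List.map_cons, List.prod_cons,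
      Matrix.mulVec_mulVec]

theorem words_spec (hP : D.P.ok = true) {u v : List ℕ} {c : ℕ × ℕ} (h : D.wordsOK u v c = true) :
    (u.map fun g => D.mat (D.gmat g)).prod = scl D.P c • (v.map fun g => D.mat (D.gmat g)).prod := by
  refine Matrix.ext_of_mulVec_single fun k => ?_
  simp only [wordsOK, Bool.and_eq_true, List.all_eq_true, List.mem_range] at h
  obtain ⟨⟨h1, h2⟩, h3⟩ := h k k.isLt
  have := eqLin_spec hP h3
  simp only [List.map_singleton, List.sum_singleton, scl_one, one_smul] at this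
  rw [ev_spec hP u _ h1, ev_spec hP v _ h2, vec_unitV] at this
  rw [this, Matrix.smul_mulVec]

end RepData

end H39.M22
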